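import Cfsg.Agent.H408.Hall.MTwo_m3
import Cfsg.Agent.H165.RV.Defs
import Cfsg.Agent.OddOrderLocal.PLengthOne
import Cfsg.Agent.H402.LwU43_m3
import Cfsg.Agent.LieClassical.SympCenter
import Cfsg.Agent.H829.Pron.CharTwo
import Cfsg.Agent.H408.Pron.PosGU
import Cfsg.Agent.Lib.Cores
import Cfsg.Agent.FastGrp
import Cfsg.Agent.Prune
set_option linter.all false

section
prune_inst 0x7ffdbdfb3bf87ddfffff7e7fafd4ddfdfdbabfffa4dff9cbffe06bff1bff4b00cdc573a58bea90fe5e97c21410e87b43f9fffeffea6bdc7ffffd5ff41ffbffdffdf6b508519c88b40fbc2ff683f0778e7f3fffffffffffffffffffffffffffbeffbfffffffff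

-- part: H563/RV/Sp
section
prune_inst 0x20000c00202200000000000080000020100000000000000000000000000120000000800002000000000000000000002000000000420000000a000000000000001000000000000000000000000000000000000000000000000000000000000000000000000
set_option linter.all false
open scoped Cfsg.Agent.FastGrp

-- part: H563/RV/Push
section
/-!
# Normal 2-subgroups of subgroups of odd index in quotients of linear groups (helper563)

`f : G → S` surjective with scalar kernel (in a faithful representation `σ` of `G` in characteristic `p`), `H ≤ S` of odd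
index and of order prime to `p`. If `G` has a 2-element `x` annihilated by a polynomial of degree at most `2 ^ j` with
`f x ^ 2 ^ j ≠ 1`, then `O_2(H) ≠ 1`; the same with the rank condition `MTwo.mem_pCore_of_rank`.
-/

set_option autoImplicit false

namespace Cfsg.Agent.H563.RV

open Cfsg Module Polynomial

universe u

/-- `H` has a nontrivial normal `2`-subgroup. -/
def HasTwo {S : Type*} [Group S] (H : Subgroup S) : Prop :=
  ∃ N : Subgroup S, N ≠ ⊥ ∧ N ≤ H ∧ IsPGroup 2 N ∧ ∀ h ∈ H, ∀ n ∈ N, h * n * h⁻¹ ∈ N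

theorem HasTwo.nAt {S : Type u} [Group S] [Finite S] {H : Subgroup S} (h : HasTwo H) : H165.RV.NAt H := by
  obtain ⟨N, h1, h2, h3, h4⟩ := h
  exact H165.RV.NAt.of_isPGroup h1 h2 h3 h4

theorem exists_conj_mem {G : Type*} [Group G] [Finite G] {K : Subgroup G} (hK : ¬ 2 ∣ K.index) {x : G}
    (hx : ∃ i : ℕ, x ^ 2 ^ i = 1) : ∃ c : G, c⁻¹ * x * c ∈ K := by
  have h1 : IsPGroup 2 (Subgroup.zpowers x) := by
    rintro ⟨y, hy⟩
    obtain ⟨k, rfl⟩ := hy
    obtain ⟨i, hi⟩ := hx
    refine ⟨i, ?_⟩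
    apply Subtype.ext
    rw [Subgroup.coe_pow, Subgroup.coe_one]
    show (x ^ k) ^ 2 ^ i = 1
    rw [← zpow_natCast, ← zpow_mul, mul_comm, zpow_mul, zpow_natCast, hi, one_zpow]
  have h2 : ¬ 2 ∣ Nat.card (G ⧸ K) := hK
  obtain ⟨a, ha⟩ := h1.nonempty_fixed_point_of_prime_not_dvd_card (G ⧸ K) h2
  obtain ⟨c, rfl⟩ := QuotientGroup.mk_surjective a
  refine ⟨c, ?_⟩
  have h3 := ha ⟨x, Subgroup.mem_zpowers x⟩
  have h4 : (QuotientGroup.mk (x * c) : G ⧸ K) = QuotientGroup.mk c := h3
  rw [QuotientGroup.eq] at h4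
  have h5 := K.inv_mem h4
  simpa only [mul_assoc, _root_.mul_inv_rev, _root_.inv_inv] using h5

theorem HasTwo.push {G : Type*} {S : Type*} [Group G] [Finite G] [Group S] (f : G →* S) (hf : Function.Surjective f)
    (H : Subgroup S) {y : H.comap f} (hy : y ∈ Cfsg.pCore 2 (H.comap f)) (hy1 : f y ≠ 1) : HasTwo H := by
  have hp : IsPGroup 2 (Cfsg.pCore 2 (H.comap f)) := Cfsg.Agent.OddOrderLocal.PLengthOne.isPGroup_pCore 2
  refine ⟨(Cfsg.pCore 2 (H.comap f)).map (f.comp (H.comap f).subtype), ?_, ?_, hp.map _, ?_⟩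
  · intro h0
    have h1 : f y ∈ (Cfsg.pCore 2 (H.comap f)).map (f.comp (H.comap f).subtype) := ⟨y, hy, rfl⟩
    rw [h0, Subgroup.mem_bot] at h1
    exact hy1 h1
  · rintro _ ⟨z, -, rfl⟩
    exact z.2
  · rintro h hh _ ⟨z, hz, rfl⟩
    obtain ⟨g, rfl⟩ := hf h
    have hn : (Cfsg.pCore 2 (H.comap f)).Normal := inferInstance
    refine ⟨⟨g, hh⟩ * z * ⟨g, hh⟩⁻¹, hn.conj_mem z hz ⟨g, hh⟩, ?_⟩
    simp only [_root_.MonoidHom.coe_comp, _root_.Subgroup.coe_subtype, _root_.Function.comp_apply, _root_.Subgroup.coe_mul, _root_.InvMemClass.coe_inv, _root_.map_mul, _root_.map_inv]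

section

variable {p : ℕ} [Fact p.Prime] {F : Type*} [Field F] [Finite F] [CharP F p]
    {W : Type*} [AddCommGroup W] [Module F W] [FiniteDimensional F W]
    {G : Type u} [Group G] [Finite G] {S : Type*} [Group S]

omit [Finite F] [FiniteDimensional F W] in
/-- the preimage of a `p'`-subgroup -/
theorem not_dvd_comap (f : G →* S) (σ : Representation F G W) (hσ : ∀ x, σ x = 1 → x = 1)
    (hker : ∀ x, f x = 1 → ∃ c : F, σ x = c • 1) {H : Subgroup S} (hp : ¬ p ∣ Nat.card H) :
    ¬ p ∣ Nat.card (H.comap f) := by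
  intro hd
  have hpr : p.Prime := Fact.out
  obtain ⟨z, hz⟩ := exists_prime_orderOf_dvd_card' p hd
  have hfz : f z = 1 := by
    have h1 : orderOf (⟨f z, z.2⟩ : H) ∣ p := by
      rw [← hz]
      refine orderOf_dvd_of_pow_eq_one ?_
      apply Subtype.ext
      show (f z) ^ orderOf z = 1
      rw [← map_pow, ← Subgroup.coe_pow, pow_orderOf_eq_one, Subgroup.coe_one, map_one]
    rcases (Nat.dvd_prime hpr).1 h1 with h2 | h2
    · exact congrArg Subtype.val (orderOf_eq_one_iff.1 h2)
    · exact absurd (h2 ▸ orderOf_dvd_natCard (⟨f z, z.2⟩ : H)) hp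
  obtain ⟨c, hc⟩ := hker z hfz
  have h3 : σ (z : G) = 1 := by
    rcases subsingleton_or_nontrivial W with hW | hW
    · exact Subsingleton.elim _ _
    · have h4 : (c ^ p) • (1 : Module.End F W) = 1 := by
        have h5 : σ (z : G) ^ p = 1 := by
          rw [← map_pow, ← Subgroup.coe_pow, ← hz, pow_orderOf_eq_one, Subgroup.coe_one, map_one]
        rw [hc, _root_.smul_pow, one_pow] at h5
        exact h5
      have h5 : c ^ p = 1 := by
        obtain ⟨w, hw⟩ := exists_ne (0 : W)
        have h6 := congrArg (fun T : Module.End F W => T w) h4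
        have h7 : (c ^ p) • w = w := h6
        have h8 : (c ^ p - 1) • w = 0 := by rw [sub_smul, one_smul, h7, sub_self]
        rcases smul_eq_zero.1 h8 with h9 | h9
        · exact sub_eq_zero.1 h9
        · exact absurd h9 hw
      have h6 : (c - 1) ^ p = 0 := by rw [sub_pow_char, h5, one_pow, sub_self]
      have h7 : c = 1 := sub_eq_zero.1 (pow_eq_zero_iff hpr.ne_zero |>.1 h6)
      rw [hc, h7, one_smul]
  have h4 : z = 1 := Subtype.ext (hσ z h3)
  rw [h4, orderOf_one] at hz
  exact hpr.one_lt.ne' hz.symm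

omit [Finite F] [FiniteDimensional F W] [Finite G] in
theorem aeval_conj (σ : Representation F G W) (c x : G) (g : F[X]) :
    aeval (σ (c⁻¹ * x * c)) g = σ c⁻¹ * aeval (σ x) g * σ c := by
  have hc : σ c * σ c⁻¹ = 1 := by rw [← map_mul, mul_inv_cancel, map_one]
  have hc' : σ c⁻¹ * σ c = 1 := by rw [← map_mul, inv_mul_cancel, map_one]
  have hpow : ∀ n : ℕ, σ (c⁻¹ * x * c) ^ n = σ c⁻¹ * σ x ^ n * σ c := by
    intro n
    rw [← map_pow, ← map_pow, ← map_mul, ← map_mul]
    congr 1
    have := conj_pow (i := n) (a := c⁻¹) (b := x)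
    rw [inv_inv] at this
    exact this
  induction g using Polynomial.induction_on' with
  | add g₁ g₂ h1 h2 => rw [map_add, map_add, h1, h2, mul_add, add_mul]
  | monomial n a =>
    rw [aeval_monomial, aeval_monomial, hpow, ← mul_assoc, ← mul_assoc, ← mul_assoc,
      ← (Algebra.commutes a (σ c⁻¹)).symm]

/-- **(A), pushed to the quotient.** -/
theorem hasTwo_of_aeval (f : G →* S) (hf : Function.Surjective f) (σ : Representation F G W)
    (hσ : ∀ x, σ x = 1 → x = 1) (hker : ∀ x, f x = 1 → ∃ c : F, σ x = c • 1) {H : Subgroup S}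
    (h2 : ¬ 2 ∣ H.index) (hp : ¬ p ∣ Nat.card H) {x : G} (hx : ∃ i : ℕ, x ^ 2 ^ i = 1) {g : F[X]} (hg0 : g ≠ 0)
    {j : ℕ} (hg : g.natDegree ≤ 2 ^ j) (h : aeval (σ x) g = 0) (hx1 : f (x ^ 2 ^ j) ≠ 1) : HasTwo H := by
  have hi : ¬ 2 ∣ (H.comap f).index := by rwa [Subgroup.index_comap_of_surjective H hf]
  obtain ⟨c, hc⟩ := exists_conj_mem hi hx
  have hG := not_dvd_comap f σ hσ hker hp
  let y : H.comap f := ⟨c⁻¹ * x * c, hc⟩
  have hpow : ∀ k : ℕ, ((y ^ k : H.comap f) : G) = c⁻¹ * x ^ k * c := by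
    intro k
    rw [Subgroup.coe_pow]
    have := conj_pow (i := k) (a := c⁻¹) (b := x)
    rw [inv_inv] at this
    exact this
  have hy : ∃ i : ℕ, y ^ 2 ^ i = 1 := by
    obtain ⟨i, hi⟩ := hx
    refine ⟨i, Subtype.ext ?_⟩
    rw [hpow, hi, mul_one, inv_mul_cancel]
    rfl
  have key := H408.Hall.MTwo.mem_pCore_of_aeval (p := p) hG (σ.comp (H.comap f).subtype)
    (fun z hz => Subtype.ext (hσ z hz)) hy hg0 hg (by
      show aeval (σ (c⁻¹ * x * c)) g = 0
      rw [aeval_conj, h, mul_zero, zero_mul])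
  refine HasTwo.push f hf H key ?_
  rw [hpow, map_mul, map_mul, map_inv]
  intro h0
  apply hx1
  have := congrArg (fun t => f c * t * (f c)⁻¹) h0
  simpa only [mul_assoc, _root_.map_pow, _root_.mul_inv_cancel_left, _root_.mul_inv_cancel, _root_.mul_one] using this

/-- **(B), pushed to the quotient.** -/
theorem hasTwo_of_rank (f : G →* S) (hf : Function.Surjective f) (σ : Representation F G W)
    (hσ : ∀ x, σ x = 1 → x = 1) (hker : ∀ x, f x = 1 → ∃ c : F, σ x = c • 1) {H : Subgroup S}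
    (h2 : ¬ 2 ∣ H.index) (hp : ¬ p ∣ Nat.card H) {x : G} {g : F[X]} (hg0 : g ≠ 0)
    {j r : ℕ} (hg : g.natDegree ≤ 2 ^ j) (h : finrank F (LinearMap.range (aeval (σ x) g)) ≤ r)
    (ht : x ^ 2 ^ (j + 1) = 1)
    (hinv : ∀ z : G, Odd (orderOf z) → ¬ p ∣ orderOf z → x ^ 2 ^ j * z * (x ^ 2 ^ j)⁻¹ = z⁻¹ →
      finrank F (LinearMap.range (σ z - 1)) ≤ 2 * r → z = 1)
    (hx1 : f (x ^ 2 ^ j) ≠ 1) : HasTwo H := by
  have hi : ¬ 2 ∣ (H.comap f).index := by rwa [Subgroup.index_comap_of_surjective H hf]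
  obtain ⟨c, hc⟩ := exists_conj_mem hi ⟨_, ht⟩
  have hG := not_dvd_comap f σ hσ hker hp
  let y : H.comap f := ⟨c⁻¹ * x * c, hc⟩
  have hpow : ∀ k : ℕ, ((y ^ k : H.comap f) : G) = c⁻¹ * x ^ k * c := by
    intro k
    rw [Subgroup.coe_pow]
    have := conj_pow (i := k) (a := c⁻¹) (b := x)
    rw [inv_inv] at this
    exact this
  have hrank : ∀ (A : Module.End F W) (d : G), finrank F (LinearMap.range (σ d⁻¹ * A * σ d)) ≤
      finrank F (LinearMap.range A) := by
    intro A d
    have h3 : LinearMap.range (σ d⁻¹ * A * σ d) ≤ (LinearMap.range A).map (σ d⁻¹) := by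
      rintro _ ⟨w, rfl⟩
      exact ⟨A (σ d w), ⟨_, rfl⟩, rfl⟩
    exact (Submodule.finrank_mono h3).trans (Submodule.finrank_map_le _ _)
  have key := H408.Hall.MTwo.mem_pCore_of_rank (p := p) (r := r) (j := j) hG (σ.comp (H.comap f).subtype) (y := y)
    hg0 hg (by
      show finrank F (LinearMap.range (aeval (σ (c⁻¹ * x * c)) g)) ≤ r
      rw [aeval_conj]
      exact (hrank _ _).trans h) (by
      apply Subtype.ext
      rw [hpow, ht, mul_one, inv_mul_cancel]
      rfl) (by
      intro z hz hzt hzr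
      apply Subtype.ext
      have h4 : (z : G) = c⁻¹ * (c * z * c⁻¹) * c := by group
      have h5 : c * (z : G) * c⁻¹ = 1 := by
        have ho : orderOf (c * (z : G) * c⁻¹) = orderOf z := by
          rw [← Subgroup.orderOf_coe]
          exact MulEquiv.orderOf_eq (MulAut.conj c) (z : G)
        refine hinv _ (ho ▸ hz) (fun hd => hG ?_) ?_ ?_
        · rw [ho] at hd
          exact hd.trans (orderOf_dvd_natCard z)
        · have h6 := congrArg Subtype.val hzt
          rw [Subgroup.coe_mul, Subgroup.coe_mul, Subgroup.coe_inv, Subgroup.coe_inv, hpow] at h6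
          have h7 := congrArg (fun t => c * t * c⁻¹) h6
          simp only [mul_assoc, mul_inv_rev, inv_inv, mul_inv_cancel_left] at h7 ⊢
          simpa only [mul_assoc, _root_.mul_inv_cancel, _root_.mul_one] using h7
        · have h6 : σ (c * (z : G) * c⁻¹) - 1 = σ (c⁻¹)⁻¹ * (σ z - 1) * σ c⁻¹ := by
            rw [inv_inv, mul_sub, sub_mul, mul_one, ← map_mul, ← map_mul, ← map_mul, mul_inv_cancel, map_one]
          rw [h6]
          exact (hrank _ _).trans hzr
      rw [h4, h5, mul_one, inv_mul_cancel]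
      rfl)
  refine HasTwo.push f hf H key ?_
  rw [hpow, map_mul, map_mul, map_inv]
  intro h0
  apply hx1
  have := congrArg (fun t => f c * t * (f c)⁻¹) h0
  simpa only [mul_assoc, _root_.map_pow, _root_.mul_inv_cancel_left, _root_.mul_inv_cancel, _root_.mul_one] using this

end

end Cfsg.Agent.H563.RV
end

-- part: H563/RV/Lin
section
/-!
# `p'`-subgroups of odd index of `PSL_n(q)`, `PSU_n(q)` have a nontrivial `2`-core (helper563)

`q` odd, `n ≥ 3`, `H` a subgroup of odd index of `PSL_n(q)` or `PSU_n(q)` of order prime to `q`: `O_2(H) ≠ 1`. The element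
`x = diag(A, det A⁻¹, 1, ..)`, `A` of order `8` in `GL_2(q)` or `GU_2(q)`, is annihilated by a polynomial of degree `4`, and
`x ^ 4` is not a scalar. (The observation is helper340's.)
-/

set_option autoImplicit false

namespace Cfsg.Agent.H563.RV

open Cfsg Module Polynomial Matrix Cfsg.Agent.H403 Cfsg.Agent.H403.NumTop Cfsg.Agent.H953.DSum

section DS

variable {F : Type*} [Field F] {a b : ℕ}

theorem ds_add (A A' : Matrix (Fin a) (Fin a) F) (B B' : Matrix (Fin b) (Fin b) F) :
    ds A B + ds A' B' = ds (A + A') (B + B') := by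
  rw [ds, ds, ds, ← map_add, fromBlocks_add]
  simp

theorem ds_zero : ds (0 : Matrix (Fin a) (Fin a) F) (0 : Matrix (Fin b) (Fin b) F) = 0 := by
  have := ds_smul_one (F := F) (a := a) (b := b) 0
  rwa [zero_smul, zero_smul, zero_smul] at this

theorem ds_aeval (A : Matrix (Fin a) (Fin a) F) (B : Matrix (Fin b) (Fin b) F) (g : F[X]) :
    aeval (ds A B) g = ds (aeval A g) (aeval B g) := by
  induction g using Polynomial.induction_on' with
  | add g₁ g₂ h1 h2 => rw [map_add, map_add, map_add, h1, h2, ds_add]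
  | monomial n c =>
    rw [aeval_monomial, aeval_monomial, aeval_monomial, ds_pow, Algebra.algebraMap_eq_smul_one,
      Algebra.algebraMap_eq_smul_one, Algebra.algebraMap_eq_smul_one, ← ds_smul_one, ds_mul]

end DS

section Elt

variable {F : Type} [Field F] [Fintype F] {e : Bool} {q : ℕ}

/-- The element `diag(A, det A⁻¹, 1, ..)`. -/
theorem exists_elt (hF : Fintype.card F = q ^ (cond e 0 1 + 1)) (hq : Odd q) (k : ℕ) :
    ∃ (M : Matrix (Fin (2 + (1 + k))) (Fin (2 + (1 + k))) F) (g : F[X]), Is e q M ∧ M.det = 1 ∧ M ^ 8 = 1 ∧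
      g ≠ 0 ∧ g.natDegree ≤ 4 ∧ aeval M g = 0 ∧ ∀ c : F, M ^ 4 ≠ c • 1 := by
  have h8 : 8 ∣ AA e 2 q := by
    have h1 : AA e 2 q = q ^ 2 - 1 := by cases e <;> simp only [AA, _root_.Nat.mod_self, _root_.BEq.rfl, _root_.Bool.or_true, ↓ _root_.reduceIte, _root_.Bool.or_self]
    rw [h1]
    exact Nat.eight_dvd_sq_sub_one_of_odd hq
  obtain ⟨A, hA, ho⟩ := exists_tor (e := e) (F := F) hF (i := 2) (N := 8) (by norm_num) h8 (by norm_num)
  have hdet : A.det ^ AA e 1 q = 1 := hA.det_pow hF
  have hq0 : q ≠ 0 := by rintro rfl; exact absurd hq (by decide)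
  have hA8 : A ^ 8 = 1 := by rw [← ho]; exact pow_orderOf_eq_one A
  have hd0 : A.det ≠ 0 := by
    intro h0
    have h1 := congrArg Matrix.det hA8
    rw [det_pow, det_one, h0] at h1
    norm_num at h1
  set d : F := (A.det)⁻¹ with hd
  have hd1 : d ^ AA e 1 q = 1 := by rw [hd, inv_pow, hdet, inv_one]
  have hd8 : d ^ 8 = 1 := by rw [hd, inv_pow, ← det_pow, hA8, det_one, inv_one]
  let B : Matrix (Fin (1 + k)) (Fin (1 + k)) F := ds (d • (1 : Matrix (Fin 1) (Fin 1) F)) (1 : Matrix (Fin k) (Fin k) F)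
  refine ⟨ds A B, A.charpoly * (X - C d) * (X - C 1), ?_, ?_, ?_, ?_, ?_, ?_, ?_⟩
  · exact hA.ds hq0 ((Is.smul_one hF hd1).ds hq0 (Is.one hq0))
  · rw [det_ds, det_ds, det_one, mul_one, det_smul, det_one, mul_one, Fintype.card_fin, pow_one, hd,
      mul_inv_cancel₀ hd0]
  · rw [ds_pow, ds_pow, hA8, one_pow, _root_.smul_pow, one_pow, hd8, one_smul, ds_one, ds_one]
  · exact mul_ne_zero (mul_ne_zero A.charpoly_monic.ne_zero (X_sub_C_ne_zero d)) (X_sub_C_ne_zero 1)
  · refine natDegree_mul_le.trans ?_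
    rw [natDegree_X_sub_C]
    have h1 : (A.charpoly * (X - C d)).natDegree ≤ 3 := by
      refine natDegree_mul_le.trans ?_
      rw [natDegree_X_sub_C, charpoly_natDegree_eq_dim, Fintype.card_fin]
    omega
  · rw [ds_aeval, ds_aeval]
    have h1 : aeval A (A.charpoly * (X - C d) * (X - C 1)) = 0 := by
      rw [map_mul, map_mul, aeval_self_charpoly, zero_mul, zero_mul]
    have h2 : aeval (d • (1 : Matrix (Fin 1) (Fin 1) F)) (A.charpoly * (X - C d) * (X - C 1)) = 0 := by
      rw [map_mul, map_mul, map_sub (aeval _) X (C d), aeval_X, aeval_C, Algebra.algebraMap_eq_smul_one, sub_self, mul_zero,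
        zero_mul]
    have h3 : aeval (1 : Matrix (Fin k) (Fin k) F) (A.charpoly * (X - C d) * (X - C 1)) = 0 := by
      rw [map_mul, map_sub (aeval _) X (C 1), aeval_X, aeval_C, map_one, sub_self, mul_zero]
    rw [h1, h2, h3, ds_zero, ds_zero]
  · intro c hc
    rw [ds_pow, ds_pow, ds_eq_smul_iff, ds_eq_smul_iff] at hc
    obtain ⟨h1, h2, -⟩ := hc
    have h3 : d ^ 4 = c := by
      have := congrFun (congrFun h2 0) 0
      rw [_root_.smul_pow, one_pow] at this
      simpa using this
    have h4 : c * c = 1 := by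
      have h5 : A ^ 8 = (c * c) • 1 := by
        rw [show 8 = 4 + 4 from rfl, pow_add, h1, smul_mul_smul_comm, one_mul]
      rw [hA8] at h5
      have := congrFun (congrFun h5 0) 0
      simpa only [_root_.Fin.isValue, _root_.Matrix.smul_apply, _root_.Matrix.one_apply_eq, _root_.smul_eq_mul, _root_.mul_one] using this.symm
    have h5 : A.det ^ 4 = c * c := by
      rw [← det_pow, h1, det_smul, det_one, mul_one, Fintype.card_fin, pow_two]
    have h6 : c = 1 := by
      have h7 : d ^ 4 * A.det ^ 4 = 1 := by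
        rw [← mul_pow, hd, inv_mul_cancel₀ hd0, one_pow]
      rw [h3, h5, h4, mul_one] at h7
      exact h7
    rw [h6, one_smul] at h1
    have h7 := orderOf_dvd_of_pow_eq_one h1
    rw [ho] at h7
    exact absurd h7 (by decide)

end Elt

/-- the natural representation of a group of matrices -/
def natRep {F : Type*} [Field F] {n : ℕ} {G : Type*} [Group G] (M : G →* Matrix (Fin n) (Fin n) F) :
    Representation F G (Fin n → F) :=
  (Matrix.toLinAlgEquiv' (R := F) (n := Fin n) : Matrix (Fin n) (Fin n) F →* Module.End F (Fin n → F)).comp M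

theorem natRep_aeval {F : Type*} [Field F] {n : ℕ} {G : Type*} [Group G] (M : G →* Matrix (Fin n) (Fin n) F)
    (x : G) (g : F[X]) : aeval (natRep M x) g = Matrix.toLinAlgEquiv' (aeval (M x) g) :=
  aeval_algHom_apply (Matrix.toLinAlgEquiv' (R := F) (n := Fin n)).toAlgHom (M x) g

/-- **`PSL_n(q)`, `PSU_n(q)`, `n ≥ 3`, `q` odd.** -/
theorem hasTwo_lin {S : Type*} [Group S] {e : Bool} {n q : ℕ} {F : Type} [Field F] [Fintype F]
    (h : IsL S e n q F) (hF : Fintype.card F = q ^ (cond e 0 1 + 1)) (hn : 3 ≤ n) (hq : Odd q)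
    {p : ℕ} [hpp : Fact p.Prime] [CharP F p] {H : Subgroup S} (h2 : ¬ 2 ∣ H.index) (hp : ¬ p ∣ Nat.card H) :
    HasTwo H := by
  obtain ⟨k, rfl⟩ : ∃ k, n = 2 + (1 + k) := ⟨n - 3, by omega⟩
  obtain ⟨M, g, hM, hdet, hM8, hg0, hg4, hgM, hM4⟩ := exists_elt (e := e) hF hq k
  cases e with
  | true =>
    obtain ⟨f⟩ := h
    let G := Matrix.SpecialLinearGroup (Fin (2 + (1 + k))) F
    let π : G →* S := (f.symm : Matrix.ProjectiveSpecialLinearGroup (Fin (2 + (1 + k))) F →* S).comp
      (QuotientGroup.mk' (Subgroup.center G))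
    have hπ : Function.Surjective π := f.symm.surjective.comp (QuotientGroup.mk'_surjective _)
    have hker : ∀ y : G, π y = 1 → ∃ c : F, (y : Matrix (Fin (2 + (1 + k))) (Fin (2 + (1 + k))) F) = c • 1 := by
      intro y hy
      have h1 : (QuotientGroup.mk' (Subgroup.center G)) y = 1 := by
        apply f.symm.injective
        rw [map_one]
        exact hy
      have h3 : y ∈ Subgroup.center G := (QuotientGroup.eq_one_iff y).1 h1
      obtain ⟨c, -, hc⟩ := Matrix.SpecialLinearGroup.mem_center_iff.1 h3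
      refine ⟨c, hc.symm.trans ?_⟩
      ext i k
      simp [Matrix.scalar_apply, Matrix.diagonal_apply, Matrix.one_apply]
    let R : G →* Matrix (Fin (2 + (1 + k))) (Fin (2 + (1 + k))) F := slToMat _ F
    let x : G := ⟨M, hdet⟩
    have hx8 : x ^ 8 = 1 := by
      apply Subtype.ext
      rw [Matrix.SpecialLinearGroup.coe_pow]
      exact hM8
    refine hasTwo_of_aeval (p := p) π hπ (natRep R) (fun y hy => ?_) (fun y hy => ?_) h2 hp (x := x) ⟨3, hx8⟩ hg0
      (j := 2) hg4 ?_ ?_
    · have h1 : R y = 1 := (Matrix.toLinAlgEquiv' (R := F)).injective (hy.trans (map_one _).symm)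
      exact Subtype.ext h1
    · obtain ⟨c, hc⟩ := hker y hy
      refine ⟨c, ?_⟩
      show Matrix.toLinAlgEquiv' (R y) = _
      have h1 : R y = c • 1 := hc
      rw [h1, map_smul, map_one]
    · rw [natRep_aeval]
      have h1 : R x = M := rfl
      rw [h1, hgM, map_zero]
    · intro h0
      obtain ⟨c, hc⟩ := hker _ h0
      rw [Matrix.SpecialLinearGroup.coe_pow] at hc
      exact hM4 c hc
  | false =>
    obtain ⟨f⟩ := h
    have hF' : Fintype.card F = q ^ 2 := by simpa using hF
    let G := Cfsg.SU (2 + (1 + k)) F q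
    let π : G →* S := (f.symm : Cfsg.PSU (2 + (1 + k)) F q →* S).comp
      (QuotientGroup.mk' (Subgroup.center G))
    have hπ : Function.Surjective π := f.symm.surjective.comp (QuotientGroup.mk'_surjective _)
    have hker : ∀ y : G, π y = 1 → ∃ c : F,
        ((y : Matrix.SpecialLinearGroup (Fin (2 + (1 + k))) F) : Matrix (Fin (2 + (1 + k))) (Fin (2 + (1 + k))) F) =
          c • 1 := by
      intro y hy
      have h1 : (QuotientGroup.mk' (Subgroup.center G)) y = 1 := by
        apply f.symm.injective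
        rw [map_one]
        exact hy
      have h3 : y ∈ Subgroup.center G := (QuotientGroup.eq_one_iff y).1 h1
      obtain ⟨c, hcn, hcq, hc⟩ := (LieClassical.SUBasic.mem_center_SU_iff hF' hn _).1 h3
      refine ⟨c, ?_⟩
      rw [hc, LieClassical.SUBasic.coe_suScalar q c hcn hcq]
      ext i k
      simp [Matrix.diagonal_apply, Matrix.one_apply]
    let R : G →* Matrix (Fin (2 + (1 + k))) (Fin (2 + (1 + k))) F := (slToMat _ F).comp G.subtype
    have hpres : ∀ u v : Fin (2 + (1 + k)) → F, hermForm _ F q (M *ᵥ u) (M *ᵥ v) = hermForm _ F q u v :=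
      (ClassicalGeometry.HermParabolic.preserves_iff hF' M).2 hM
    let x : G := ⟨⟨M, hdet⟩, hpres⟩
    have hpow : ∀ m : ℕ, R (x ^ m) = M ^ m := fun m => by rw [map_pow]; rfl
    have hx8 : x ^ 8 = 1 := by
      apply Subtype.ext
      apply Subtype.ext
      exact (hpow 8).trans hM8
    refine hasTwo_of_aeval (p := p) π hπ (natRep R) (fun y hy => ?_) (fun y hy => ?_) h2 hp (x := x) ⟨3, hx8⟩ hg0
      (j := 2) hg4 ?_ ?_
    · have h1 : R y = 1 := (Matrix.toLinAlgEquiv' (R := F)).injective (hy.trans (map_one _).symm)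
      exact Subtype.ext (Subtype.ext h1)
    · obtain ⟨c, hc⟩ := hker y hy
      refine ⟨c, ?_⟩
      show Matrix.toLinAlgEquiv' (R y) = _
      have h1 : R y = c • 1 := hc
      rw [h1, map_smul, map_one]
    · rw [natRep_aeval]
      have h1 : R x = M := rfl
      rw [h1, hgM, map_zero]
    · intro h0
      obtain ⟨c, hc⟩ := hker _ h0
      exact hM4 c ((hpow _).symm.trans hc)

/-- **`NRow` for `PSL_n(q)`, `PSU_n(q)`, `n ≥ 3`, `q` odd, `p ∉ π`, `2 ∈ π`.** -/
theorem nRow_lin {S : Type*} [Group S] [Finite S] {e : Bool} {n q : ℕ} {F : Type} [Field F] [Fintype F]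
    (h : IsL S e n q F) (hF : Fintype.card F = q ^ (cond e 0 1 + 1)) (hn : 3 ≤ n) (hq : Odd q)
    {p : ℕ} [hpp : Fact p.Prime] [CharP F p] {π : Set ℕ} (h2 : 2 ∈ π) (hp : p ∉ π) : H165.RV.NRow π S := by
  intro H hH
  refine HasTwo.nAt (hasTwo_lin (p := p) h hF hn hq ?_ ?_)
  · exact hH.2 2 Nat.prime_two h2
  · exact fun hd => hp (hH.1 p hpp.out hd)

end Cfsg.Agent.H563.RV
end

-- part: H563/RV/Sp
section
/-!
# `p'`-subgroups of odd index of `PSp_2m(q)`, `q` odd, `m ≥ 2`, have a nontrivial `2`-core (helper563)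

`y` of order `4` in an `SL_2(q)` of a hyperbolic plane: `(y - 1)(y - i)` has rank `1`, and `t = y ^ 2` inverts no element
`x ≠ 1` of odd order with `rank (x - 1) ≤ 2`.
-/

set_option autoImplicit false

namespace Cfsg.Agent.H563.RV

open Cfsg Module Polynomial Matrix

section Inv

variable {K : Type*} [Field K] {V : Type*} [AddCommGroup V] [Module K V] [FiniteDimensional K V]

/-- A symplectic involution `t` inverts no symplectic `x` of odd order (prime to the characteristic) with
`rank (x - 1) ≤ 2`. -/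
theorem inv_trivial (h2 : (2 : K) ≠ 0) (B : V →ₗ[K] V →ₗ[K] K) (halt : ∀ v, B v v = 0)
    (hnd : ∀ v, (∀ w, B w v = 0) → v = 0) {x x' t : Module.End K V} (hx : ∀ v w, B (x v) (x w) = B v w)
    (ht : ∀ v w, B (t v) (t w) = B v w) (hxx : x * x' = 1) (hxx' : x' * x = 1) (htt : t * t = 1)
    (hinv : t * x = x' * t) {N : ℕ} (hN : Odd N) (hNK : (N : K) ≠ 0) (hxN : x ^ N = 1)
    (hr : finrank K (LinearMap.range (x - 1)) ≤ 2) : x = 1 := by
  have xx' : ∀ v, x (x' v) = v := fun v => LinearMap.congr_fun hxx v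
  have x'x : ∀ v, x' (x v) = v := fun v => LinearMap.congr_fun hxx' v
  have tt : ∀ v, t (t v) = v := fun v => LinearMap.congr_fun htt v
  have tx : ∀ v, t (x v) = x' (t v) := fun v => LinearMap.congr_fun hinv v
  set U := LinearMap.range (x - 1) with hU
  have skew : ∀ v w, B v w = - B w v := by
    intro v w
    have h1 := halt (v + w)
    simp only [map_add, LinearMap.add_apply, halt, zero_add, add_zero] at h1
    linear_combination h1
  -- (b)
  have hb : ∀ w, (∀ u ∈ U, B u w = 0) → x w = w := by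
    intro w hw
    have h1 : x' w - w = 0 := by
      apply hnd
      intro v
      have h3 := hw ((x - 1) v) ⟨v, rfl⟩
      rw [LinearMap.sub_apply, Module.End.one_apply, map_sub, LinearMap.sub_apply] at h3
      have h4 : B (x v) w = B v (x' w) := by
        conv_lhs => rw [← xx' w]
        rw [hx]
      rw [map_sub, ← h4, h3]
    have h2 : x' w = w := sub_eq_zero.1 h1
    conv_lhs => rw [← h2]
    rw [xx']
  -- (c)
  have hc : ∀ u ∈ U, x u = u → u = 0 := by
    rintro _ ⟨v, rfl⟩ hu
    set u := (x - 1) v with hu0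
    have h1 : x v = v + u := by rw [hu0, LinearMap.sub_apply, Module.End.one_apply]; abel
    have h3 : ∀ k : ℕ, (x ^ k) v = v + (k : K) • u := by
      intro k
      induction k with
      | zero => simp only [_root_.pow_zero, _root_.Module.End.one_apply, _root_.Nat.cast_zero, _root_.zero_smul, _root_.add_zero]
      | succ k ih =>
        rw [pow_succ', Module.End.mul_apply, ih, map_add, map_smul, hu, h1, Nat.cast_succ, add_smul, one_smul]
        abel
    have h4 := h3 N
    rw [hxN, Module.End.one_apply] at h4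
    have h5 : (N : K) • u = 0 := by
      have := h4.symm
      simpa only [_root_.smul_eq_zero, _root_.add_eq_left] using this
    exact (smul_eq_zero.1 h5).resolve_left hNK
  -- (d)
  have hd : ∀ u ∈ U, t u ∈ U := by
    rintro _ ⟨v, rfl⟩
    refine ⟨-(x' (t v)), ?_⟩
    rw [LinearMap.sub_apply, Module.End.one_apply, map_neg, xx', LinearMap.sub_apply, Module.End.one_apply, map_sub, tx]
    abel
  have hxU : ∀ u ∈ U, x u ∈ U := by
    rintro _ ⟨v, rfl⟩
    refine ⟨x v, ?_⟩
    rw [LinearMap.sub_apply, LinearMap.sub_apply, map_sub]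
    rfl
  -- (e)
  have he : ∀ a b, t a = a → t b = -b → B a b = 0 := by
    intro a b ha hb'
    have h1 := ht a b
    rw [ha, hb', map_neg] at h1
    have h3 : (2 : K) * B a b = 0 := by linear_combination -h1
    exact (mul_eq_zero.1 h3).resolve_left h2
  -- (f)
  have hf : ∀ a ∈ U, ∀ b ∈ U, t a = a → t b = -b → a = 0 ∨ b = 0 := by
    intro a haU b hbU ha hb'
    by_contra hcon
    push Not at hcon
    obtain ⟨ha0, hb0⟩ := hcon
    have hli : LinearIndependent K ![a, b] := by
      rw [LinearIndependent.pair_iff]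
      intro r s hrs
      have h3 := congrArg t hrs
      rw [map_add, map_smul, map_smul, ha, hb', map_zero, smul_neg] at h3
      have h4 : (2 * r) • a = 0 := by
        have : (r • a + s • b) + (r • a + -(s • b)) = 0 := by rw [hrs, h3, add_zero]
        rw [mul_smul, two_smul]
        rw [← this]; abel
      have h5 : r = 0 := by
        rcases smul_eq_zero.1 h4 with h6 | h6
        · exact (mul_eq_zero.1 h6).resolve_left h2
        · exact absurd h6 ha0
      rw [h5, zero_smul, zero_add] at hrs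
      exact ⟨h5, (smul_eq_zero.1 hrs).resolve_right hb0⟩
    have hle : Submodule.span K {a, b} ≤ U := by
      rw [Submodule.span_le]
      intro z hz
      rcases hz with rfl | hz
      · exact haU
      · rw [Set.mem_singleton_iff.1 hz]; exact hbU
    have hfr : finrank K (Submodule.span K {a, b}) = 2 := by
      have h3 := finrank_span_eq_card hli
      rw [Matrix.range_cons, Matrix.range_cons, Matrix.range_empty, Set.union_empty, Set.singleton_union] at h3
      simpa using h3
    have heq : Submodule.span K {a, b} = U := Submodule.eq_of_le_of_finrank_le hle (by rw [hfr]; exact hr)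
    have h3 : ∀ u ∈ U, B u a = 0 := by
      intro u hu
      rw [← heq, Submodule.mem_span_pair] at hu
      obtain ⟨r, s, rfl⟩ := hu
      rw [map_add, map_smul, map_smul, LinearMap.add_apply, LinearMap.smul_apply, LinearMap.smul_apply, halt,
        skew b a, he a b ha hb', neg_zero, smul_zero, smul_zero, add_zero]
    exact ha0 (hc a haU (hb a h3))
  -- (g)
  have hg : (∀ u ∈ U, t u = u) ∨ (∀ u ∈ U, t u = -u) := by
    by_contra hcon
    push Not at hcon
    obtain ⟨⟨u, hu, hu1⟩, ⟨w, hw, hw1⟩⟩ := hcon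
    have h3 := hf (w + t w) (U.add_mem hw (hd w hw)) (u - t u) (U.sub_mem hu (hd u hu))
      (by rw [map_add, tt, add_comm]) (by rw [map_sub, tt, neg_sub])
    rcases h3 with h4 | h4
    · exact hw1 (eq_neg_of_add_eq_zero_right h4)
    · exact hu1 (sub_eq_zero.1 h4).symm
  -- (h)
  have hh : ∀ u ∈ U, x (x u) = u := by
    intro u hu
    have h3 : x u = x' u := by
      rcases hg with h4 | h4
      · have := tx u
        rw [h4 _ (hxU u hu), h4 u hu] at this
        exact this
      · have := tx u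
        rw [h4 _ (hxU u hu), h4 u hu, map_neg] at this
        exact neg_injective this
    rw [h3, xx']
  -- (i)
  have hi : ∀ u ∈ U, x u = u := by
    intro u hu
    obtain ⟨k, hk⟩ := hN
    have h3 : ∀ j : ℕ, (x ^ (2 * j)) u = u := by
      intro j
      induction j with
      | zero => simp
      | succ j ih =>
        rw [show 2 * (j + 1) = 2 * j + 2 from by ring, pow_add, Module.End.mul_apply, pow_two, Module.End.mul_apply,
          hh u hu, ih]
    have h4 : x ^ (2 * (k + 1)) = x := by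
      rw [show 2 * (k + 1) = N + 1 from by omega, pow_succ, hxN, one_mul]
    have h5 := h3 (k + 1)
    rwa [h4] at h5
  have hU0 : U = ⊥ := by
    rw [Submodule.eq_bot_iff]
    intro u hu
    exact hc u hu (hi u hu)
  rw [hU, LinearMap.range_eq_bot] at hU0
  exact sub_eq_zero.1 hU0

end Inv

section Mat

variable {K : Type*} [Field K] {m : ℕ}

/-- `E_00` -/
def E0 (K : Type*) [Field K] (m : ℕ) [NeZero m] : Matrix (Fin m) (Fin m) K := Matrix.single 0 0 1

theorem E0_mul [NeZero m] : E0 K m * E0 K m = E0 K m := by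
  rw [E0, Matrix.single_mul_single_same, one_mul]

theorem E0_transpose [NeZero m] : (E0 K m)ᵀ = E0 K m := by
  rw [E0, Matrix.transpose_single]

/-- the element of order 4 -/
def Y (K : Type*) [Field K] (m : ℕ) [NeZero m] : Matrix (Fin m ⊕ Fin m) (Fin m ⊕ Fin m) K :=
  fromBlocks (1 - E0 K m) (-E0 K m) (E0 K m) (1 - E0 K m)

theorem Y_mem [NeZero m] : Y K m ∈ Matrix.symplecticGroup (Fin m) K := by
  rw [SymplecticGroup.mem_iff, Y, Matrix.J, fromBlocks_transpose, fromBlocks_multiply, fromBlocks_multiply]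
  simp only [transpose_sub, transpose_neg, transpose_one, E0_transpose, mul_zero, mul_one, zero_add, add_zero, mul_neg,
    mul_sub, sub_mul, one_mul, neg_mul, neg_neg, E0_mul]
  congr 1 <;> abel

theorem Y_sq [NeZero m] : Y K m * Y K m = fromBlocks (1 - 2 • E0 K m) 0 0 (1 - 2 • E0 K m) := by
  rw [Y, fromBlocks_multiply]
  simp only [mul_one, mul_neg, mul_sub, sub_mul, one_mul, neg_mul, E0_mul]
  congr 1 <;> abel

theorem Y_four [NeZero m] : Y K m * Y K m * (Y K m * Y K m) = 1 := by
  rw [Y_sq, fromBlocks_multiply, ← fromBlocks_one]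
  simp only [mul_one, mul_zero, zero_mul, add_zero, zero_add, mul_sub, sub_mul, one_mul, nsmul_eq_mul, Nat.cast_ofNat]
  have h : (2 : Matrix (Fin m) (Fin m) K) * E0 K m * (2 * E0 K m) = 4 * E0 K m := by
    have h1 : (2 : Matrix (Fin m) (Fin m) K) * E0 K m = 2 • E0 K m := by rw [nsmul_eq_mul]; rfl
    rw [h1, smul_mul_smul_comm, E0_mul, nsmul_eq_mul]
    norm_num
  rw [h]
  congr 1 <;> noncomm_ring

theorem Y_rank [NeZero m] {i : K} (hi : i * i = -1) :
    ((Y K m - 1) * (Y K m - algebraMap K _ i)).rank ≤ 1 := by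
  have h1 : (Y K m - 1) * (Y K m - algebraMap K _ i) =
      fromBlocks ((i - 1) • E0 K m) ((1 + i) • E0 K m) (-((1 + i) • E0 K m)) ((i - 1) • E0 K m) := by
    have h2 : Y K m - 1 = fromBlocks (-E0 K m) (-E0 K m) (E0 K m) (-E0 K m) := by
      rw [Y, ← fromBlocks_one, sub_eq_add_neg, fromBlocks_neg, fromBlocks_add]
      congr 1 <;> abel
    have h3 : Y K m - algebraMap K _ i =
        fromBlocks ((1 - i) • 1 - E0 K m) (-E0 K m) (E0 K m) ((1 - i) • 1 - E0 K m) := by
      have h4 : (algebraMap K (Matrix (Fin m ⊕ Fin m) (Fin m ⊕ Fin m) K) i) = fromBlocks (i • 1) 0 0 (i • 1) := by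
        rw [Algebra.algebraMap_eq_smul_one, ← fromBlocks_one, fromBlocks_smul]
        simp
      rw [Y, h4, sub_eq_add_neg, fromBlocks_neg, fromBlocks_add, sub_smul, one_smul]
      congr 1 <;> abel
    rw [h2, h3, fromBlocks_multiply]
    simp only [mul_sub, mul_smul_comm, mul_one, neg_mul, mul_neg, E0_mul, neg_neg]
    congr 1 <;> module
  have h5 : (Y K m - 1) * (Y K m - algebraMap K _ i) =
      Matrix.vecMulVec (Sum.elim (Pi.single 0 1) (Pi.single 0 i)) (Sum.elim (Pi.single 0 (i - 1)) (Pi.single 0 (1 + i))) := by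
    rw [h1]
    ext a b
    rw [Matrix.vecMulVec_apply]
    rcases a with a | a <;> rcases b with b | b
    · rw [fromBlocks_apply₁₁, Sum.elim_inl, Sum.elim_inl, Matrix.smul_apply, E0, Matrix.single_apply]
      simp only [Pi.single_apply]
      split_ifs <;> simp_all only [_root_.and_self, _root_.smul_eq_mul, _root_.mul_one, _root_.one_mul, _root_.true_and, _root_.not_true_eq_false, _root_.and_true, _root_.MulZeroClass.mul_zero, _root_.MulZeroClass.zero_mul, _root_.not_and]
    · rw [fromBlocks_apply₁₂, Sum.elim_inl, Sum.elim_inr, Matrix.smul_apply, E0, Matrix.single_apply]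
      simp only [Pi.single_apply]
      split_ifs <;> simp_all only [_root_.and_self, _root_.smul_eq_mul, _root_.mul_one, _root_.one_mul, _root_.true_and, _root_.not_true_eq_false, _root_.and_true, _root_.MulZeroClass.mul_zero, _root_.MulZeroClass.zero_mul, _root_.not_and]
    · rw [fromBlocks_apply₂₁, Sum.elim_inr, Sum.elim_inl, Matrix.neg_apply, Matrix.smul_apply, E0, Matrix.single_apply]
      simp only [Pi.single_apply]
      split_ifs <;> simp_all only [_root_.and_self, _root_.smul_eq_mul, _root_.mul_one, _root_.neg_add_rev, _root_.true_and, _root_.not_true_eq_false, _root_.and_true, _root_.MulZeroClass.mul_zero, _root_.neg_zero, _root_.MulZeroClass.zero_mul, _root_.not_and]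
      linear_combination -hi
    · rw [fromBlocks_apply₂₂, Sum.elim_inr, Sum.elim_inr, Matrix.smul_apply, E0, Matrix.single_apply]
      simp only [Pi.single_apply]
      split_ifs <;> simp_all only [_root_.and_self, _root_.smul_eq_mul, _root_.mul_one, _root_.true_and, _root_.not_true_eq_false, _root_.and_true, _root_.MulZeroClass.mul_zero, _root_.MulZeroClass.zero_mul, _root_.not_and]
      linear_combination -hi
  rw [h5]
  exact Matrix.rank_vecMulVec_le _ _

/-- the invariant form -/
def frm (K : Type*) [Field K] (m : ℕ) : (Fin m ⊕ Fin m → K) →ₗ[K] (Fin m ⊕ Fin m → K) →ₗ[K] K :=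
  Matrix.toLinearMap₂' K (Matrix.J (Fin m) K)

theorem frm_apply (v w : Fin m ⊕ Fin m → K) :
    frm K m v w = ∑ i, (v (Sum.inr i) * w (Sum.inl i) - v (Sum.inl i) * w (Sum.inr i)) := by
  rw [frm, Matrix.toLinearMap₂'_apply']
  have h : (Matrix.J (Fin m) K) *ᵥ w = Sum.elim (fun i => - w (Sum.inr i)) (fun i => w (Sum.inl i)) := by
    rw [Matrix.J, ← Sum.elim_comp_inl_inr w, fromBlocks_mulVec]
    simp only [zero_mulVec, one_mulVec, neg_mulVec, zero_add, add_zero, Sum.elim_comp_inl, Sum.elim_comp_inr]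
    rfl
  rw [h, dotProduct, Fintype.sum_sum_type, ← Finset.sum_add_distrib]
  refine Finset.sum_congr rfl fun i _ => ?_
  simp
  ring

theorem frm_pres {A : Matrix (Fin m ⊕ Fin m) (Fin m ⊕ Fin m) K} (hA : A ∈ Matrix.symplecticGroup (Fin m) K)
    (v w : Fin m ⊕ Fin m → K) : frm K m (A *ᵥ v) (A *ᵥ w) = frm K m v w := by
  rw [frm, Matrix.toLinearMap₂'_apply', Matrix.toLinearMap₂'_apply']
  have h := SymplecticGroup.mem_iff'.1 hA
  rw [← vecMul_transpose A v, ← dotProduct_mulVec, mulVec_mulVec, mulVec_mulVec, h]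

theorem frm_alt (v : Fin m ⊕ Fin m → K) : frm K m v v = 0 := by
  rw [frm_apply]
  exact Finset.sum_eq_zero fun i _ => by ring

theorem frm_nondeg (v : Fin m ⊕ Fin m → K) (h : ∀ w, frm K m w v = 0) : v = 0 := by
  classical
  funext i
  rcases i with i | i
  · have h1 := h (Pi.single (Sum.inr i) 1)
    rw [frm_apply, Finset.sum_eq_single i] at h1
    · simpa using h1
    · intro j _ hj
      simp [hj]
    · intro h2
      exact absurd (Finset.mem_univ i) h2
  · have h1 := h (Pi.single (Sum.inl i) 1)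
    rw [frm_apply, Finset.sum_eq_single i] at h1
    · simpa using h1
    · intro j _ hj
      simp [hj]
    · intro h2
      exact absurd (Finset.mem_univ i) h2

end Mat

/-- the natural representation of a group of matrices -/
def natRep' {F : Type*} [Field F] {ι : Type*} [Fintype ι] [DecidableEq ι] {G : Type*} [Group G]
    (M : G →* Matrix ι ι F) : Representation F G (ι → F) :=
  (Matrix.toLinAlgEquiv' (R := F) (n := ι) : Matrix ι ι F →* Module.End F (ι → F)).comp M

theorem natRep'_aeval {F : Type*} [Field F] {ι : Type*} [Fintype ι] [DecidableEq ι] {G : Type*} [Group G]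
    (M : G →* Matrix ι ι F) (x : G) (g : F[X]) :
    aeval (natRep' M x) g = Matrix.toLinAlgEquiv' (aeval (M x) g) :=
  aeval_algHom_apply (Matrix.toLinAlgEquiv' (R := F) (n := ι)).toAlgHom (M x) g

theorem exists_i (F : Type) [Field F] [Finite F] : ∃ (K : Type) (_ : Field K) (_ : Finite K) (_ : Algebra F K) (i : K),
    i * i = -1 := by
  let f : F[X] := X ^ 2 + 1
  have hfin : Finite f.SplittingField := Module.finite_of_finite F
  have hdeg : (f.map (algebraMap F f.SplittingField)).degree ≠ 0 := by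
    rw [degree_map]
    have : f.degree = 2 := by
      show (X ^ 2 + 1 : F[X]).degree = 2
      rw [← C_1]
      exact degree_X_pow_add_C (by norm_num) 1
    rw [this]
    norm_num
  obtain ⟨i, hi⟩ := (SplittingField.splits f).exists_eval_eq_zero hdeg
  refine ⟨f.SplittingField, inferInstance, hfin, inferInstance, i, ?_⟩
  have h1 : i ^ 2 + 1 = 0 := by simpa only [f, _root_.Polynomial.map_add, _root_.Polynomial.map_pow, _root_.Polynomial.map_X, _root_.Polynomial.map_one, _root_.Polynomial.eval_add, _root_.Polynomial.eval_pow, _root_.Polynomial.eval_X, _root_.Polynomial.eval_one] using hi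
  linear_combination h1

/-- **`PSp_2m(q)`, `m ≥ 2`, `q` odd.** -/
theorem hasTwo_sp {S : Type*} [Group S] {m : ℕ} {F : Type} [Field F] [Fintype F] (e : S ≃* Cfsg.PSp m F) (hm : 2 ≤ m)
    {p : ℕ} [hpp : Fact p.Prime] [CharP F p] (hp2 : p ≠ 2) {H : Subgroup S} (h2 : ¬ 2 ∣ H.index)
    (hp : ¬ p ∣ Nat.card H) : HasTwo H := by
  have hm0 : NeZero m := ⟨by omega⟩
  obtain ⟨K, hK, hKf, hKa, i, hi⟩ := exists_i F
  have hKp : CharP K p := charP_of_injective_algebraMap (algebraMap F K).injective p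
  have htwoF : (2 : F) ≠ 0 := by
    intro h
    have h1 : ((2 : ℕ) : F) = 0 := by exact_mod_cast h
    rw [CharP.cast_eq_zero_iff F p] at h1
    rcases (Nat.dvd_prime Nat.prime_two).1 h1 with h3 | h3
    · exact hpp.out.one_lt.ne' h3
    · exact hp2 h3
  have htwoK : (2 : K) ≠ 0 := by
    intro h
    apply htwoF
    apply (algebraMap F K).injective
    rw [map_ofNat, map_zero]
    exact h
  let G := Matrix.symplecticGroup (Fin m) F
  let π : G →* S := (e.symm : Cfsg.PSp m F →* S).comp (QuotientGroup.mk' (Subgroup.center G))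
  have hπ : Function.Surjective π := e.symm.surjective.comp (QuotientGroup.mk'_surjective _)
  have hker : ∀ y : G, π y = 1 → ∃ c : F, (y : Matrix (Fin m ⊕ Fin m) (Fin m ⊕ Fin m) F) = c • 1 := by
    intro y hy
    have h1 : (QuotientGroup.mk' (Subgroup.center G)) y = 1 := by
      apply e.symm.injective
      rw [map_one]
      exact hy
    have h3 : y ∈ Subgroup.center G := (QuotientGroup.eq_one_iff y).1 h1
    exact (LieClassical.SympCenter.mem_center_iff m y).1 h3
  let R : G →* Matrix (Fin m ⊕ Fin m) (Fin m ⊕ Fin m) K :=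
    (((algebraMap F K).mapMatrix : Matrix (Fin m ⊕ Fin m) (Fin m ⊕ Fin m) F →+* _) : _ →* _).comp
      (Submonoid.subtype (Matrix.symplecticGroup (Fin m) F))
  have hRinj : ∀ y : G, R y = 1 → y = 1 := by
    intro y hy
    apply Subtype.ext
    apply Matrix.map_injective (algebraMap F K).injective
    refine hy.trans ?_
    exact ((algebraMap F K).mapMatrix.map_one).symm
  have hRmem : ∀ y : G, R y ∈ Matrix.symplecticGroup (Fin m) K := by
    intro y
    have h1 := congrArg (fun M : Matrix _ _ F => M.map (algebraMap F K)) (SymplecticGroup.mem_iff.1 y.2)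
    rw [SymplecticGroup.mem_iff]
    have hJ : (Matrix.J (Fin m) F).map (algebraMap F K) = Matrix.J (Fin m) K := by
      rw [Matrix.J, Matrix.J, fromBlocks_map]
      congr 1
      · exact Matrix.map_zero _ (map_zero _)
      · ext a b; simp [Matrix.one_apply]
      · exact Matrix.map_one _ (map_zero _) (map_one _)
      · exact Matrix.map_zero _ (map_zero _)
    have h3 : ((y : Matrix (Fin m ⊕ Fin m) (Fin m ⊕ Fin m) F) * Matrix.J (Fin m) F *
        (y : Matrix (Fin m ⊕ Fin m) (Fin m ⊕ Fin m) F)ᵀ).map (algebraMap F K) = R y * Matrix.J (Fin m) K * (R y)ᵀ := by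
      rw [Matrix.map_mul, Matrix.map_mul, hJ]
      rfl
    rw [← h3]
    exact h1.trans hJ
  let x : G := ⟨Y F m, Y_mem⟩
  have hRx : R x = Y K m := by
    show (Y F m).map (algebraMap F K) = Y K m
    have hE : (E0 F m).map (algebraMap F K) = E0 K m := by
      rw [E0, E0]
      ext a b
      rw [Matrix.map_apply, Matrix.single_apply, Matrix.single_apply]
      split_ifs <;> simp
    rw [Y, Y, fromBlocks_map, ← hE]
    congr 1
    · rw [Matrix.map_sub _ (fun a b => map_sub _ a b), Matrix.map_one _ (map_zero _) (map_one _)]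
    · ext a b; simp only [_root_.Matrix.map_apply, _root_.Matrix.neg_apply, _root_.map_neg]
    · rw [Matrix.map_sub _ (fun a b => map_sub _ a b), Matrix.map_one _ (map_zero _) (map_one _)]
  refine hasTwo_of_rank (p := p) π hπ (natRep' R) (fun y hy => ?_) (fun y hy => ?_) h2 hp (x := x)
    (g := (X - C 1) * (X - C i)) (mul_ne_zero (X_sub_C_ne_zero _) (X_sub_C_ne_zero _)) (j := 1) (r := 1) ?_ ?_ ?_ ?_ ?_
  · exact hRinj y ((Matrix.toLinAlgEquiv' (R := K)).injective (hy.trans (map_one _).symm))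
  · obtain ⟨c, hc⟩ := hker y hy
    refine ⟨algebraMap F K c, ?_⟩
    show Matrix.toLinAlgEquiv' (R y) = _
    have h1 : R y = (algebraMap F K c) • 1 := by
      show (y : Matrix (Fin m ⊕ Fin m) (Fin m ⊕ Fin m) F).map (algebraMap F K) = _
      rw [hc]
      ext a b
      rw [Matrix.map_apply, Matrix.smul_apply, Matrix.smul_apply, Matrix.one_apply, Matrix.one_apply]
      split_ifs <;> simp
    rw [h1, map_smul, map_one]
  · refine natDegree_mul_le.trans ?_
    rw [natDegree_X_sub_C, natDegree_X_sub_C]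
    norm_num
  · rw [natRep'_aeval, hRx, map_mul, map_sub (aeval _), map_sub (aeval _), aeval_X, aeval_C, aeval_C, map_one]
    exact Y_rank hi
  · apply Subtype.ext
    show (Y F m) ^ 4 = 1
    rw [show 4 = 2 + 2 from rfl, pow_add, pow_two, Y_four]
  · intro z hz hzp hzt hzr
    have h3 : natRep' R z = 1 := by
      have htt : x ^ 2 ^ 1 * x ^ 2 ^ 1 = 1 := by
        apply Subtype.ext
        show (Y F m) ^ 2 * (Y F m) ^ 2 = 1
        rw [pow_two, Y_four]
      refine inv_trivial htwoK (frm K m) frm_alt frm_nondeg (x' := natRep' R z⁻¹) (t := natRep' R (x ^ 2 ^ 1))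
        (fun v w => frm_pres (hRmem z) v w) (fun v w => frm_pres (hRmem _) v w) ?_ ?_ ?_ ?_ (N := orderOf z) hz ?_ ?_ hzr
      · rw [← map_mul, mul_inv_cancel, map_one]
      · rw [← map_mul, inv_mul_cancel, map_one]
      · rw [← map_mul, htt, map_one]
      · rw [← map_mul, ← map_mul, ← hzt, inv_mul_cancel_right]
      · rwa [Ne, CharP.cast_eq_zero_iff K p]
      · rw [← map_pow, pow_orderOf_eq_one, map_one]
    exact hRinj z ((Matrix.toLinAlgEquiv' (R := K)).injective (h3.trans (map_one _).symm))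
  · intro h0
    obtain ⟨c, hc⟩ := hker _ h0
    have h3 : ((x ^ 2 ^ 1 : G) : Matrix (Fin m ⊕ Fin m) (Fin m ⊕ Fin m) F) = Y F m * Y F m := by
      show (Y F m) ^ 2 = _
      rw [pow_two]
    rw [h3, Y_sq] at hc
    have h4 := congrFun (congrFun hc (Sum.inl 0)) (Sum.inl 0)
    have h5 := congrFun (congrFun hc (Sum.inl ⟨1, by omega⟩)) (Sum.inl ⟨1, by omega⟩)
    have h6 : (0 : Fin m) ≠ ⟨1, by omega⟩ := by
      intro h
      have := congrArg Fin.val h
      simp at this
    rw [fromBlocks_apply₁₁, Matrix.sub_apply, Matrix.smul_apply, E0, Matrix.single_apply_same, Matrix.one_apply_eq,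
      Matrix.smul_apply, Matrix.one_apply_eq] at h4
    rw [fromBlocks_apply₁₁, Matrix.sub_apply, Matrix.smul_apply, E0, Matrix.single_apply_of_ne _ _ _ _ _ (by
      rintro ⟨h7, -⟩; exact h6 h7), Matrix.one_apply_eq, Matrix.smul_apply, Matrix.one_apply_eq] at h5
    apply htwoF
    simp only [smul_eq_mul, nsmul_eq_mul, Nat.cast_ofNat, mul_one, mul_zero, sub_zero] at h4 h5
    linear_combination h5 - h4

/-- **`NRow` for `PSp_2m(q)`, `m ≥ 2`, `q` odd, `p ∉ π`, `2 ∈ π`.** -/
theorem nRow_sp {S : Type*} [Group S] [Finite S] {m : ℕ} {F : Type} [Field F] [Fintype F] (e : S ≃* Cfsg.PSp m F)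
    (hm : 2 ≤ m) {p : ℕ} [hpp : Fact p.Prime] [CharP F p] {π : Set ℕ} (h2 : 2 ∈ π) (hp : p ∉ π) :
    H165.RV.NRow π S := by
  intro H hH
  refine HasTwo.nAt (hasTwo_sp (p := p) e hm ?_ ?_ ?_)
  · rintro rfl
    exact hp h2
  · exact hH.2 2 Nat.prime_two h2
  · exact fun hd => hp (hH.1 p hpp.out hd)

end Cfsg.Agent.H563.RV
end

private theorem dce_a10199ff7457 : _root_.True := by
  try have : _root_.True := by simp only [_root_.Cfsg.Agent.H563.RV.Y.congr_simp]
  try have : _root_.True := by simp only [_root_.Cfsg.Agent.H563.RV.E0.eq_1]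
  try have : _root_.True := by simp only [_root_.Cfsg.Agent.H563.RV.E0.congr_simp]
  try have : _root_.True := by simp only [_root_.Cfsg.Agent.H563.RV.Y.eq_1]
  try have : _root_.True := by simp only [_root_.Cfsg.Agent.H563.RV.frm.eq_1]
  exact _root_.True.intro
end

-- part: H408/Hall/Own
section
set_option linter.all false
open scoped Cfsg.Agent.FastGrp

/-!
# Pronormality: reduction to the overgroups of a Sylow subgroup; own characteristic (helper408)

* `of_sylow` : it suffices to look at the overgroups of a Sylow `p`-subgroup `S` and at `g ∈ N(S)`;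
* `pr_of_rgdAb` : in a group with a root group datum of characteristic `p` with commutative torus every
  subgroup of index prime to `p` is pronormal.
-/

set_option autoImplicit false
set_option linter.unusedSectionVars false

namespace Cfsg.Agent.H408.Hall.Own

open Cfsg Subgroup Cfsg.Agent.H165.RV
open scoped Pointwise

universe u

variable {G : Type u} [Group G]

theorem Pr_conj {H : Subgroup G} {g : G} (c : G) (h : Pr (MulAut.conj c • H) (c * g * c⁻¹)) : Pr H g := by
  obtain ⟨x, hx, he⟩ := h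
  have e1 : MulAut.conj (c * g * c⁻¹) • MulAut.conj c • H = MulAut.conj c • MulAut.conj g • H := by
    rw [← smul_mul, ← smul_mul]
    congr 2
    group
  rw [e1, ← smul_sup'] at hx
  refine ⟨c⁻¹ * x * c, ?_, ?_⟩
  · have h1 := Subgroup.smul_mem_pointwise_smul _ (MulAut.conj c⁻¹) _ hx
    rw [conj_inv_smul_smul] at h1
    simpa [MulAut.smul_def] using h1
  · rw [e1, ← smul_mul] at he
    have h1 : MulAut.conj c⁻¹ • MulAut.conj (c * g) • H = MulAut.conj c⁻¹ • MulAut.conj x • MulAut.conj c • H := by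
      rw [he]
    rw [← smul_mul, ← smul_mul, ← smul_mul] at h1
    have e2 : c⁻¹ * (c * g) = g := by group
    rwa [e2] at h1

variable [Finite G]

theorem exists_sylow_le {p : ℕ} [hp : Fact p.Prime] {H : Subgroup G} (hH : ¬ p ∣ H.index) :
    ∃ P : Sylow p G, (P : Subgroup G) ≤ H := by
  obtain ⟨Q⟩ : Nonempty (Sylow p H) := inferInstance
  have hcard : Nat.card ((Q : Subgroup H).map H.subtype) = p ^ (Nat.card G).factorization p := by
    rw [Subgroup.card_map_of_injective H.subtype_injective, Q.card_eq_multiplicity, ← H.card_mul_index,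
      Nat.factorization_mul Nat.card_pos.ne' Subgroup.index_ne_zero_of_finite, Finsupp.add_apply,
      Nat.factorization_eq_zero_of_not_dvd hH, add_zero]
  exact ⟨Sylow.ofCard _ hcard, Subgroup.map_subtype_le _⟩

/-- It suffices to look at the overgroups of a given Sylow subgroup and at the elements of its normalizer. -/
theorem of_sylow {p : ℕ} [hp : Fact p.Prime] (S : Sylow p G) (Q : Subgroup G → Prop)
    (hQ : ∀ H : Subgroup G, ∀ g : G, Q H → Q (MulAut.conj g • H)) (hi : ∀ H : Subgroup G, Q H → ¬ p ∣ H.index)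
    (h : ∀ H : Subgroup G, Q H → (S : Subgroup G) ≤ H →
      ∀ m ∈ Subgroup.normalizer ((S : Subgroup G) : Set G), Pr H m) :
    ∀ H : Subgroup G, Q H → ∀ g, Pr H g := by
  intro H hH
  obtain ⟨P, hP⟩ := exists_sylow_le (hi H hH)
  obtain ⟨c, hc⟩ := MulAction.exists_smul_eq G P S
  have key : ∀ K : Subgroup G, Q K → (S : Subgroup G) ≤ K → ∀ g, Pr K g := by
    intro K hK hSK g
    set J := K ⊔ MulAut.conj g • K with hJ
    have hSJ : (S : Subgroup G) ≤ J := hSK.trans le_sup_left
    have hgJ : ((g • S : Sylow p G) : Subgroup G) ≤ J := by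
      rw [Sylow.coe_subgroup_smul]
      exact (pointwise_smul_le_pointwise_smul_iff.mpr hSK).trans le_sup_right
    obtain ⟨k, hk⟩ := MulAction.exists_smul_eq J (S.subtype hSJ) ((g • S).subtype hgJ)
    have hk' : (k : G) • S = g • S := by
      rw [Sylow.smul_subtype] at hk
      exact Sylow.subtype_injective hk
    refine Pr.trans k.2 (h K hK hSK _ ?_)
    exact Sylow.smul_eq_iff_mem_normalizer.1 (by rw [mul_smul, ← hk', inv_smul_smul])
  intro g
  apply Pr_conj c
  refine key _ (hQ H c hH) ?_ _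
  rw [← hc, Sylow.coe_subgroup_smul]
  exact pointwise_smul_le_pointwise_smul_iff.mpr hP

/-- **The abstract row in characteristic `p`** -/
theorem pr_of_bn {p : ℕ} [hp : Fact p.Prime] (S : Sylow p G) (T : Subgroup G)
    (hTS : ∀ t ∈ T, ∀ x ∈ (S : Subgroup G), t * x * t⁻¹ ∈ (S : Subgroup G))
    (hTc : ∀ s ∈ T, ∀ t ∈ T, s * t = t * s)
    (hN : ∀ g ∈ Subgroup.normalizer ((S : Subgroup G) : Set G), ∃ u ∈ (S : Subgroup G), ∃ t ∈ T, g = u * t)
    (hB : ∀ g : G, ∃ a ∈ (S : Subgroup G), ∃ n : G, (∀ t ∈ T, n⁻¹ * t * n ∈ T) ∧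
      ∃ b ∈ (S : Subgroup G), g = a * n * b) : ∀ H : Subgroup G, ¬ p ∣ H.index → ∀ g, Pr H g := by
  refine of_sylow S (fun H => ¬ p ∣ H.index) ?_ (fun H h => h) fun H _ hH m hm => ?_
  · intro H g h
    rw [← cj_eq]
    have h1 : (H.map (MulAut.conj g : G ≃* G).toMonoidHom).index = H.index :=
      Subgroup.index_map_equiv H (MulAut.conj g)
    rwa [h1]
  obtain ⟨u, hu, t, ht, rfl⟩ := hN m hm
  have key : ∀ x ∈ H, t * x * t⁻¹ ∈ H := by
    intro x hx
    obtain ⟨a, ha, n, hn, b, hb, hx'⟩ := hB x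
    obtain ⟨K, hK⟩ : ∃ K : Subgroup G, K = (S : Subgroup G) ⊔ (S : Subgroup G).map (MulAut.conj n).toMonoidHom :=
      ⟨_, rfl⟩
    have hSK : (S : Subgroup G) ≤ K := by rw [hK]; exact le_sup_left
    have hnS : ∀ s ∈ (S : Subgroup G), n * s * n⁻¹ ∈ K := fun s hs => by
      rw [hK]; exact Subgroup.mem_sup_right ⟨s, hs, rfl⟩
    have hxS : ∀ s ∈ (S : Subgroup G), x * s * x⁻¹ ∈ K := by
      intro s hs
      have h1 : n * (b * s * b⁻¹) * n⁻¹ ∈ K := hnS _ (mul_mem (mul_mem hb hs) (inv_mem hb))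
      have h2 := mul_mem (mul_mem (hSK ha) h1) (inv_mem (hSK ha))
      rw [hx']
      convert h2 using 1
      group
    have hKH : K ≤ H := by
      have hn' : n = a⁻¹ * x * b⁻¹ := by rw [hx']; group
      have hnH : n ∈ H := by
        rw [hn']
        exact mul_mem (mul_mem (inv_mem (hH ha)) hx) (inv_mem (hH hb))
      rw [hK]
      refine sup_le hH ?_
      rintro _ ⟨s, hs, rfl⟩
      exact mul_mem (mul_mem hnH (hH hs)) (inv_mem hnH)
    -- `t` normalises `K`
    have htK : K ≤ K.comap (MulAut.conj t).toMonoidHom := by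
      conv_lhs => rw [hK]
      refine sup_le (fun s hs => hSK (hTS t ht s hs)) ?_
      rintro _ ⟨s, hs, rfl⟩
      have h1 := hnS _ (hTS _ (hn t ht) s hs)
      show t * (n * s * n⁻¹) * t⁻¹ ∈ K
      convert h1 using 1
      group
    -- Sylow in `K`
    have hle : ((x • S : Sylow p G) : Subgroup G) ≤ K := by
      rw [Sylow.coe_subgroup_smul]
      intro y hy
      obtain ⟨s, hs, rfl⟩ := (Subgroup.mem_smul_pointwise_iff_exists _ _ _).1 hy
      exact hxS s hs
    obtain ⟨k, hk⟩ := MulAction.exists_smul_eq K (S.subtype hSK) ((x • S).subtype hle)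
    have hk' : (k : G) • S = x • S := by
      rw [Sylow.smul_subtype] at hk
      exact Sylow.subtype_injective hk
    have hk2 : (k : G)⁻¹ * x ∈ Subgroup.normalizer ((S : Subgroup G) : Set G) :=
      Sylow.smul_eq_iff_mem_normalizer.1 (by rw [mul_smul, ← hk', inv_smul_smul])
    obtain ⟨v, hv, s, hs, e⟩ := hN _ hk2
    have e2 : x = (k * v) * s := by
      rw [mul_assoc, ← e]; group
    have h3 : (k : G) * v ∈ K := mul_mem k.2 (hSK hv)
    have hsH : s ∈ H := by
      have : s = ((k : G) * v)⁻¹ * x := by rw [e2]; group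
      rw [this]
      exact mul_mem (inv_mem (hKH h3)) hx
    have h4 : t * ((k : G) * v) * t⁻¹ ∈ H := hKH (htK h3)
    have e3 : t * x * t⁻¹ = (t * ((k : G) * v) * t⁻¹) * s := by
      have h5 : t * s = s * t := hTc t ht s hs
      rw [e2]
      calc t * (k * v * s) * t⁻¹ = t * (k * v) * t⁻¹ * (t * s) * t⁻¹ := by group
        _ = _ := by rw [h5]; group
    rw [e3]
    exact mul_mem h4 hsH
  have key2 : ∀ x ∈ H, u * t * x * (u * t)⁻¹ ∈ H := by
    intro x hx
    have h1 := mul_mem (mul_mem (hH hu) (key x hx)) (inv_mem (hH hu))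
    convert h1 using 1
    group
  apply Pr.of_eq
  apply Subgroup.eq_of_le_of_card_ge
  · intro y hy
    obtain ⟨x, hx, rfl⟩ := (Subgroup.mem_smul_pointwise_iff_exists _ _ _).1 hy
    exact key2 x hx
  · rw [card_smul]

open CoxeterSystem Cfsg.Agent.ChevalleyStructure.CoxeterGeom Cfsg.Agent.Tits.Roots Cfsg.Agent.Tits.Core
  Cfsg.Agent.Nodes.Reps Cfsg.Agent.Nodes.BNOf Cfsg.Agent.Nodes.StabComb
  Cfsg.Agent.Nodes.Bruhat Cfsg.Agent.KFacts.RgdAut Cfsg.Agent.H716.RGDAb

/-- **Own characteristic**: every subgroup of index prime to `p` is pronormal. -/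
theorem pr_of_rgdAb {p : ℕ} [hp : Fact p.Prime] (hG : HasRGDAb p G) :
    ∀ H : Subgroup G, ¬ p ∣ H.index → ∀ g, Pr H g := by
  obtain ⟨l, M, A, h, T, n, X, hW, R, hX, hab⟩ := hG
  have hGG : GG M.toCoxeterSystem h T X = ⊤ := by
    rw [eq_top_iff, ← hX]
    exact le_sup_right
  obtain ⟨S, hS⟩ : ∃ S : Sylow p G, (S : Subgroup G) = RGD.Sup X (RGD.Pos M.toCoxeterSystem h) := by
    obtain ⟨S', hS'⟩ := R.isPGroup_Upos.exists_le_sylow
    exact ⟨S', Cfsg.Agent.Nodes.NormalForm.eq_U_of_isPGroup R S'.2 hS' (by rw [hGG]; exact le_top)⟩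
  have hTN := R.T_le_normalizer_U
  have hTS : ∀ t ∈ T, ∀ x ∈ (S : Subgroup G), t * x * t⁻¹ ∈ (S : Subgroup G) := by
    intro t ht x hx
    rw [hS] at hx ⊢
    exact (Subgroup.mem_normalizer_iff.1 (hTN ht) x).1 hx
  refine pr_of_bn S T hTS hab ?_ ?_
  · intro g hg
    rw [hS] at hg
    have h1 : g ∈ RGD.B M.toCoxeterSystem h T X := by
      rw [← normalizer_U' R hGG]
      exact hg
    obtain ⟨t, ht, u, hu, rfl⟩ := R.mem_B.1 h1
    refine ⟨t * u * t⁻¹, hTS t ht u (by rw [hS]; exact hu), t, ht, by group⟩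
  · intro g
    have hg : g ∈ GG M.toCoxeterSystem h T X := by rw [hGG]; exact Subgroup.mem_top g
    obtain ⟨w, b₁, hb₁, k, hk, b₂, hb₂, e⟩ := (mem_GG R).1 hg
    obtain ⟨t, ht, u, hu, rfl⟩ := R.mem_B.1 hb₁
    obtain ⟨t', ht', u', hu', rfl⟩ := R.mem_B.1 hb₂
    have hkn := hk.mem_normalizer
    refine ⟨t * u * t⁻¹, hTS t ht u (by rw [hS]; exact hu), t * k * t', ?_, u', by rw [hS]; exact hu', ?_⟩
    · intro s hs
      have h1 : k⁻¹ * (t⁻¹ * s * t) * k ∈ T := by
        have h2 := (Subgroup.mem_normalizer_iff.1 (inv_mem hkn) (t⁻¹ * s * t)).1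
          (mul_mem (mul_mem (inv_mem ht) hs) ht)
        rwa [inv_inv] at h2
      have h3 := mul_mem (mul_mem (inv_mem ht') h1) ht'
      convert h3 using 1
      group
    · rw [e]; group

/-- **Own characteristic**: the Hall subgroups are pronormal. -/
theorem isPronormal_of_rgdAb {p : ℕ} [hp : Fact p.Prime] (hG : HasRGDAb p G) {H : Subgroup G}
    (hH : ¬ p ∣ H.index) : IsPronormal H :=
  isPronormal_iff.2 (pr_of_rgdAb hG H hH)

end Cfsg.Agent.H408.Hall.Own
end

-- part: H408/Hall/SpMono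
section
set_option linter.all false
open scoped Cfsg.Agent.FastGrp

/-!
# Monomial Hall subgroups of the symplectic groups are pronormal (helper408)

`GU n F` is the symplectic group in quaternionic form.
-/

set_option autoImplicit false
set_option linter.unusedSectionVars false

namespace Cfsg.Agent.H408.Hall.SpMono

open Quaternion Matrix Equiv
open Cfsg.Agent.H158.PronQ Cfsg.Agent.H158.PronMat Cfsg.Agent.H158.PronMono
open Cfsg.Agent.H158.PronFrame Cfsg.Agent.H158.PronTwo Cfsg.Agent.H158.PronAvg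
open Cfsg.Agent.H158.PronK Cfsg.Agent.H158.PronP Cfsg.Agent.H158.PronT Cfsg.Agent.H158.PronH
open Cfsg.Agent.H158.PronG Cfsg.Agent.H158.PronM2
open Cfsg.Agent.H408.Pron.Gen
open Cfsg.Agent.H165.RV Cfsg.Agent.H988.CPi Cfsg.Agent.H571.DExt
open scoped Pointwise

/-- the symplectic group in quaternionic form -/
abbrev GU (n : Type*) [Fintype n] [DecidableEq n] (F : Type*) [Field F] := Cfsg.Agent.H158.PronMat.GU n F

section Abstract

variable {G : Type*} [Group G] [Finite G]

theorem relIndex_dvd_of_normal (H A : Subgroup G) [A.Normal] : H.relIndex A ∣ H.index := by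
  rw [← relIndex_sup' H A, ← Subgroup.relIndex_mul_index (le_sup_left : H ≤ H ⊔ A)]
  exact dvd_mul_right _ _

/-- A Hall subgroup of a product contains the components of its elements. -/
theorem mulSingle_mem {n : Type*} [Fintype n] [DecidableEq n] {V : Type*} [Group V] [Finite V] {π : Set ℕ}
    {B : Subgroup (n → V)} (h1 : PiN π (Nat.card B)) (h2 : PiN' π B.index) {d : n → V} (hd : d ∈ B) (j : n) :
    Pi.mulSingle j (d j) ∈ B := by
  set K : Subgroup (n → V) := (MonoidHom.mulSingle (fun _ : n => V) j).range with hK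
  have hKn : K.Normal := by
    refine ⟨?_⟩
    rintro _ ⟨v, rfl⟩ g
    refine ⟨g j * v * (g j)⁻¹, ?_⟩
    funext a
    by_cases ha : a = j
    · subst ha; simp
    · simp [ha]
  set Bj : Subgroup V := B.comap (MonoidHom.mulSingle (fun _ : n => V) j) with hBj
  set Pj : Subgroup V := B.map (Pi.evalMonoidHom (fun _ : n => V) j) with hPj
  have hBP : Bj ≤ Pj := by
    intro v hv
    exact ⟨_, hv, by simp⟩
  have h3 : Bj.relIndex Pj ∣ B.index := by
    have h4 : Bj.index = B.relIndex K := Subgroup.index_comap _ _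
    refine (Dvd.intro _ (Subgroup.relIndex_mul_index hBP)).trans ?_
    rw [h4]
    exact relIndex_dvd_of_normal B K
  have h5 : Bj.relIndex Pj ∣ Nat.card B := by
    refine (Subgroup.relIndex_dvd_card Bj Pj).trans ?_
    exact Subgroup.card_map_dvd _ _
  have h6 : Bj.relIndex Pj = 1 := by
    by_contra hne
    obtain ⟨q, hq, hqd⟩ := Nat.exists_prime_and_dvd hne
    exact h2 q hq (h1 q hq (hqd.trans h5)) (hqd.trans h3)
  have h7 : Pj ≤ Bj := Subgroup.relIndex_eq_one.1 h6
  exact h7 ⟨d, hd, rfl⟩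

end Abstract

variable {F : Type*} [Field F]
variable {n : Type*} [Fintype n] [DecidableEq n]

/-- the monomial matrices -/
def MM : Subgroup (GU n F) := SG ⊤ ⊤

theorem mem_MM {g : GU n F} : g ∈ (MM : Subgroup (GU n F)) ↔ ∃ σ : Perm n, Mono g.1 σ := by
  constructor
  · rintro ⟨σ, -, h, -⟩
    exact ⟨σ, h⟩
  · rintro ⟨σ, h⟩
    refine ⟨σ, trivial, h, fun b => ?_⟩
    obtain ⟨u, hu⟩ := h.entry b
    exact ⟨u, trivial, hu⟩

/-- the diagonal matrices -/
def AA : Subgroup (GU n F) := (D : (n → U F) →* GU n F).range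

theorem mem_AA {g : GU n F} : g ∈ (AA : Subgroup (GU n F)) ↔ Mono g.1 1 := by
  constructor
  · rintro ⟨d, rfl⟩
    exact D_mono d
  · intro h
    choose u hu using fun b => h.entry b
    refine ⟨u, ?_⟩
    apply Subtype.ext
    ext1 a b
    rw [D_apply]
    by_cases hab : a = b
    · subst hab
      rw [if_pos rfl, hu a, Perm.one_apply]
    · rw [if_neg hab, h a b hab]

theorem AA_le_MM : (AA : Subgroup (GU n F)) ≤ MM := fun _ hg => mem_MM.2 ⟨1, mem_AA.1 hg⟩

theorem AA_conj {g a : GU n F} (hg : g ∈ (MM : Subgroup (GU n F))) (ha : a ∈ (AA : Subgroup (GU n F))) :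
    g * a * g⁻¹ ∈ (AA : Subgroup (GU n F)) := by
  obtain ⟨σ, hσ⟩ := mem_MM.1 hg
  have h1 : Mono (g⁻¹ : GU n F).1 σ⁻¹ := by
    rw [coe_inv_GU]; exact hσ.star
  have h2 : Mono (g * a * g⁻¹ : GU n F).1 (σ * 1 * σ⁻¹) := (hσ.mul (mem_AA.1 ha)).mul h1
  rw [mul_one, mul_inv_cancel] at h2
  exact mem_AA.2 h2

instance AA_normal : ((AA : Subgroup (GU n F)).subgroupOf MM).Normal := by
  refine ⟨fun a ha g => ?_⟩
  rw [Subgroup.mem_subgroupOf] at ha ⊢
  exact AA_conj g.2 ha

theorem D_mem_of {J : Subgroup (GU n F)} {d : n → U F} (h : ∀ j, Rj j (d j) ∈ J) : D d ∈ J := by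
  have h1 : d ∈ J.comap (D : (n → U F) →* GU n F) := by
    refine Subgroup.pi_mem_of_mulSingle_mem d fun j => ?_
    rw [Subgroup.mem_comap]
    have h2 := h j
    rw [Rj_eq_D] at h2
    have e1 : (Pi.mulSingle j (d j) : n → U F) = fun c => if c = j then d j else 1 := by
      funext c
      rw [Pi.mulSingle_apply]
    rw [e1]
    exact h2
  exact h1

variable [Finite F] {π : Set ℕ}

/-- A monomial Hall subgroup contains the components of its diagonal elements. -/
theorem Rj_mem_of_D {H : Subgroup (GU n F)} (hH : Cfsg.IsPiHall π H) (hM : H ≤ MM) {d : n → U F} (hd : D d ∈ H)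
    (j : n) : Rj j (d j) ∈ H := by
  have h1 : PiN π (Nat.card (H.comap (D : (n → U F) →* GU n F))) := by
    refine PiN.of_dvd hH.1 ?_
    have hinj : Function.Injective (D : (n → U F) →* GU n F) := by
      intro a b hab
      funext c
      have h3 := congrFun (congrFun (congrArg Subtype.val hab) c) c
      rw [D_apply, D_apply, if_pos rfl, if_pos rfl] at h3
      exact Subtype.ext h3
    rw [← Subgroup.card_map_of_injective (K := H.comap (D : (n → U F) →* GU n F)) hinj]
    exact Subgroup.card_dvd_of_le (Subgroup.map_comap_le _ _)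
  have h2 : PiN' π (H.comap (D : (n → U F) →* GU n F)).index := by
    refine PiN'.of_dvd hH.2 ?_
    rw [Subgroup.index_comap]
    show H.relIndex AA ∣ _
    have h3 := relIndex_dvd_of_normal (H.subgroupOf MM) ((AA : Subgroup (GU n F)).subgroupOf MM)
    rw [Subgroup.relIndex_subgroupOf AA_le_MM] at h3
    refine h3.trans ?_
    exact Dvd.intro _ (Subgroup.relIndex_mul_index hM)
  have h3 := mulSingle_mem h1 h2 (d := d) hd j
  rw [Subgroup.mem_comap] at h3
  rw [Rj_eq_D]
  have e1 : (Pi.mulSingle j (d j) : n → U F) = fun c => if c = j then d j else 1 := by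
    funext c
    rw [Pi.mulSingle_apply]
  rw [e1] at h3
  exact h3

theorem Dom_conj_Rj (h2 : (2 : F) ≠ 0) (ε : n → ℤ) (j : n) (w : U F) :
    Dom h2 ε * Rj j w * (Dom h2 ε)⁻¹ = Rj j (om h2 ^ ε j * w * (om h2 ^ ε j)⁻¹) := by
  have hm : Mono (Dom h2 ε : GU n F).1 1 := D_mono _
  refine hm.conj_Rj j ?_ w
  rw [Dom_apply, Perm.one_apply, if_pos rfl]

/-- **Monomial Hall subgroups**: the normalizer step. -/
theorem pr_Dom (h2 : (2 : F) ≠ 0) (hns : ¬ IsSquare (2 : F)) {H : Subgroup (GU n F)} (hH : Cfsg.IsPiHall π H)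
    (hM : H ≤ MM) (hQ : ∀ j, ∀ w ∈ Q8 F, Rj j w ∈ H) (ε : n → ℤ) : Pr H (Dom h2 ε) := by
  classical
  set J := H ⊔ MulAut.conj (Dom h2 ε) • H with hJ
  have hHJ : H ≤ J := le_sup_left
  have hgJ : ∀ h ∈ H, Dom h2 ε * h * (Dom h2 ε)⁻¹ ∈ J := by
    intro h hh
    refine Subgroup.mem_sup_right ?_
    exact Subgroup.smul_mem_pointwise_smul _ (MulAut.conj (Dom h2 ε)) _ hh
  set ε' : n → ℤ := fun j => if Rj j (om h2) ∈ J then ε j else 0 with hε'
  have hy : Dom h2 ε' ∈ J := by
    refine D_mem_of fun j => ?_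
    rw [map_zpow]
    by_cases hj : Rj j (om h2) ∈ J
    · exact zpow_mem hj _
    · rw [hε']
      simp only [if_neg hj, zpow_zero]
      exact one_mem _
  refine Pr.trans hy ?_
  set δ : n → ℤ := fun j => -ε' j + ε j with hδ
  have e1 : (Dom h2 ε')⁻¹ * Dom h2 ε = (Dom h2 δ : GU n F) := by
    rw [← Dom_neg, ← Dom_add]
  rw [e1]
  -- `ω ^ δ j` normalizes the components
  have key : ∀ j, ∀ w : U F, Rj j w ∈ H → Rj j (om h2 ^ δ j * w * (om h2 ^ δ j)⁻¹) ∈ H := by
    intro j w hw
    by_cases hj : Rj j (om h2) ∈ J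
    · have : δ j = 0 := by simp only [hδ, hε', if_pos hj]; ring
      rw [this, zpow_zero, one_mul, inv_one, mul_one]
      exact hw
    · have hδj : δ j = ε j := by simp only [hδ, hε', if_neg hj]; ring
      rw [hδj]
      rcases om_zpow_cases h2 (ε j) with h | h | h
      · rw [h, one_mul, inv_one, mul_one]; exact hw
      all_goals
        have h3 : H.comap (Rj j) ≤ Q8 F := by
          refine le_Q8_of_conj h2 hns (P₂ := J.comap (Rj j)) (fun v hv => hQ j v hv) (Subgroup.comap_mono hHJ) hj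
            (g := om h2 ^ ε j) (by rw [h]; simp) ?_
          intro v hv
          show Rj j _ ∈ J
          rw [← Dom_conj_Rj]
          exact hgJ _ hv
        exact hQ j _ (om_zpow_conj_mem h2 _ (h3 hw))
  -- in the monomial group
  set H' : Subgroup (MM : Subgroup (GU n F)) := H.subgroupOf MM with hH'
  set A' : Subgroup (MM : Subgroup (GU n F)) := (AA : Subgroup (GU n F)).subgroupOf MM with hA'
  have hDA : ∀ δ : n → ℤ, Dom h2 δ ∈ (AA : Subgroup (GU n F)) := fun δ => ⟨_, rfl⟩
  have hδM : Dom h2 δ ∈ (MM : Subgroup (GU n F)) := AA_le_MM (hDA δ)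
  have h3 : Pr H' (⟨Dom h2 δ, hδM⟩ : (MM : Subgroup (GU n F))) := by
    refine Pr.of_inter_eq A' (π := π) ?_ ?_ ?_ ?_
    · refine PiN.of_dvd hH.1 ?_
      rw [hH', ← Subgroup.card_map_of_injective (K := H.subgroupOf MM) (Subgroup.subtype_injective _),
        Subgroup.subgroupOf_map_subtype, inf_of_le_left hM]
    · refine PiN'.of_dvd hH.2 ?_
      refine (relIndex_dvd_of_normal H' A').trans ?_
      exact Dvd.intro _ (Subgroup.relIndex_mul_index hM)
    · have h4 : (⟨Dom h2 δ, hδM⟩ : (MM : Subgroup (GU n F))) ∈ H' ⊔ A' := Subgroup.mem_sup_right (hDA δ)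
      have h5 := smul_eq_of_mem h4
      rw [smul_sup', smul_normal A'] at h5
      exact h5
    · apply Subgroup.eq_of_le_of_card_ge
      · intro z hz
        obtain ⟨⟨x, hxM⟩, ⟨hx1, hx2⟩, rfl⟩ := (Subgroup.mem_smul_pointwise_iff_exists _ _ _).1 hz
        obtain ⟨d, hd⟩ : x ∈ (AA : Subgroup (GU n F)) := hx2
        have hdx : D d ∈ H := by rw [hd]; exact hx1
        have e2 : Dom h2 δ * x * (Dom h2 δ)⁻¹ = D (fun b => om h2 ^ δ b * d b * (om h2 ^ δ b)⁻¹) := by
          rw [← hd, Cfsg.Agent.H408.Pron.Gen.Dom, ← map_inv, ← map_mul, ← map_mul]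
          rfl
        have h5 : Dom h2 δ * x * (Dom h2 δ)⁻¹ ∈ H := by
          rw [e2]
          exact D_mem_of fun j => key j _ (Rj_mem_of_D hH hM hdx j)
        exact ⟨h5, ⟨_, e2.symm⟩⟩
      · rw [card_smul]
  have h4 := h3.of_subgroupOf hM
  exact h4

end Cfsg.Agent.H408.Hall.SpMono
end

-- part: H408/Hall/Sp
section
set_option linter.all false
open scoped Cfsg.Agent.FastGrp

/-!
# Hall subgroups of the symplectic groups, 2 not a square (helper408)
-/

set_option autoImplicit false
set_option linter.unusedSectionVars false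

namespace Cfsg.Agent.H408.Hall.Sp

open Quaternion Matrix Equiv
open Cfsg.Agent.H158.PronQ Cfsg.Agent.H158.PronMat Cfsg.Agent.H158.PronMono
open Cfsg.Agent.H158.PronFrame Cfsg.Agent.H158.PronTwo Cfsg.Agent.H158.PronAvg
open Cfsg.Agent.H158.PronK Cfsg.Agent.H158.PronP Cfsg.Agent.H158.PronT Cfsg.Agent.H158.PronH
open Cfsg.Agent.H158.PronG Cfsg.Agent.H158.PronM2
open Cfsg.Agent.H408.Pron.Gen Cfsg.Agent.H408.Pron.Frame
open Cfsg.Agent.H165.RV Cfsg.Agent.H988.CPi
open Cfsg.Agent.H408.Hall.SpMono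
open scoped Pointwise

/-- the symplectic group in quaternionic form -/
abbrev GU (n : Type*) [Fintype n] [DecidableEq n] (F : Type*) [Field F] := Cfsg.Agent.H158.PronMat.GU n F

variable {F : Type*} [Field F] [Finite F]
variable {n : Type*} [Fintype n] [DecidableEq n] {π : Set ℕ}

/-- The overgroups of the Sylow 2-subgroup: monomial is enough. -/
theorem pr_of_mono (h2 : (2 : F) ≠ 0) (hns : ¬ IsSquare (2 : F)) (h2π : 2 ∈ π)
    (hm : ∀ T : Sylow 2 (Perm n), ∀ H : Subgroup (GU n F), Cfsg.IsPiHall π H →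
      SG (Q8 F) (T : Subgroup (Perm n)) ≤ H → H ≤ MM) :
    ∀ H : Subgroup (GU n F), Cfsg.IsPiHall π H → ∀ g, Pr H g := by
  have : Fact (Nat.Prime 2) := ⟨Nat.prime_two⟩
  obtain ⟨T⟩ : Nonempty (Sylow 2 (Perm n)) := inferInstance
  obtain ⟨S, hS⟩ := exists_sylow_gen h2 hns T
  refine Own.of_sylow S (fun H => Cfsg.IsPiHall π H) ?_ ?_ ?_
  · intro H g h
    rw [← cj_eq]
    have h1 : (H.map (MulAut.conj g : GU n F ≃* GU n F).toMonoidHom).index = H.index :=
      Subgroup.index_map_equiv H (MulAut.conj g)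
    have h3 : Nat.card (H.map (MulAut.conj g : GU n F ≃* GU n F).toMonoidHom) = Nat.card H :=
      Subgroup.card_map_of_injective (MulAut.conj g : GU n F ≃* GU n F).injective
    refine ⟨fun p hp hd => h.1 p hp (h3 ▸ hd), fun p hp hpi => ?_⟩
    rw [h1]
    exact h.2 p hp hpi
  · intro H h
    exact h.2 2 Nat.prime_two h2π
  · intro H hH hSH m hm'
    rw [hS] at hSH hm'
    obtain ⟨ε, hε, hs⟩ := norm_SG_gen h2 hns T hm'
    have h3 := pr_Dom h2 hns hH (hm T H hH hSH) (fun j w hw => hSH (Rj_mem _ j hw)) ε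
    have h4 := h3.mul_right (hSH hs)
    rwa [mul_inv_cancel_left] at h4

theorem pow_three_eq_one_of_notMem {G : Type*} [Group G] [Finite G] {H : Subgroup G} (h3 : 3 ∉ π)
    (hH : Cfsg.IsPiHall π H) {x : G} (hx : x ∈ H) (h : x ^ 3 = 1) : x = 1 := by
  by_contra hne
  have h1 : orderOf x = 3 := orderOf_eq_prime h hne
  exact h3 (hH.1 3 Nat.prime_three (h1 ▸ Subgroup.orderOf_dvd_natCard H hx))

/-- `3 ∉ π`: the frame theorem -/
theorem mono_of_three_notMem (h2 : (2 : F) ≠ 0) (hns : ¬ IsSquare (2 : F)) (h3 : 3 ∉ π)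
    (T : Sylow 2 (Perm n)) {H : Subgroup (GU n F)} (hH : Cfsg.IsPiHall π H)
    (hS : SG (Q8 F) (T : Subgroup (Perm n)) ≤ H) : H ≤ MM := by
  have hom : (om h2 : U F) ≠ 1 := fun h => om_notMem h2 (h ▸ one_mem _)
  have hc : ∀ j : n, (Rj j (om h2) : GU n F) ^ 3 = 1 := fun j => by rw [← map_pow, om_cube, map_one]
  have hne : ∀ j : n, (Rj j (om h2) : GU n F) ≠ 1 := by
    intro j h
    apply hom
    have h1 : (Rj j (om h2) : GU n F).1 j j = (1 : GU n F).1 j j := by rw [h]
    rw [Rj_apply, if_pos rfl, if_pos rfl] at h1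
    have h4 : (1 : GU n F).1 j j = 1 := Matrix.one_apply_eq j
    exact Subtype.ext (h1.trans h4)
  have hG : Good h2 T H (fun _ => True) := by
    refine ⟨hS, fun j _ h => hne j (pow_three_eq_one_of_notMem h3 hH h (hc j)), ?_, fun _ _ _ h => absurd trivial h⟩
    intro a b hab _ _ h
    have hcomm : Commute (Rj a (om h2) : GU n F) (Rj b (om h2)) := by
      rw [Cfsg.Agent.H408.Pron.Cases.Rj_om, Cfsg.Agent.H408.Pron.Cases.Rj_om]
      exact Dom_comm h2 _ _
    have h1 := pow_three_eq_one_of_notMem h3 hH h (by rw [hcomm.mul_pow, hc, hc, one_mul])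
    have h4 : (Rj a (om h2) * Rj b (om h2) : GU n F).1 a a = (1 : GU n F).1 a a := by rw [h1]
    have h5 : (Rj a (om h2) * Rj b (om h2) : GU n F).1 a a = ((om h2 : U F) : ℍ[F]) := by
      rw [Rj_eq_D a, D_mul_apply, Rj_apply, if_pos rfl, if_pos rfl, if_neg hab, mul_one]
    rw [h5] at h4
    have h6 : (1 : GU n F).1 a a = 1 := Matrix.one_apply_eq a
    exact hom (Subtype.ext (h4.trans h6))
  intro k hk
  rw [mem_MM]
  apply Cfsg.Agent.H158.PronA.mono_of_cols
  intro b
  obtain ⟨j, -, hj⟩ := frame hns hG ((CV_e (j := b) trivial).act hk)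
  refine ⟨j, fun a ha => ?_⟩
  have h3 := hj a ha
  rwa [Cfsg.Agent.H158.PronMono.mulVec_e] at h3

end Cfsg.Agent.H408.Hall.Sp
end

-- part: H408/Hall/SpRefl
section
prune_inst 0x4004c405822000000180502a0200004140005b20040000028400a400348e20228c5a04014b0101602881c516801006000100000422800000a000c0000000000008000001100a104040086800080000000000000000000000000000000000004000000000
set_option linter.all false
open scoped Cfsg.Agent.FastGrp

/-!
# Reflections of order 3 in a group normalising a 2-group with the frame reflections (helper408)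

`N` is a subgroup of the wreath product `SG (Q8 F) T` normalised by `H` and containing the frame reflections. Then the
reflections of order three of `H` (of type `ω`) are in frame directions (characteristic not 2, 3).
-/

set_option autoImplicit false
set_option linter.unusedSectionVars false

namespace Cfsg.Agent.H408.Hall.SpRefl

open Quaternion Matrix Equiv
open Cfsg.Agent.H158.PronQ Cfsg.Agent.H158.PronMat Cfsg.Agent.H158.PronMono
open Cfsg.Agent.H158.PronFrame Cfsg.Agent.H158.PronTwo Cfsg.Agent.H158.PronAvg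
open Cfsg.Agent.H158.PronK Cfsg.Agent.H158.PronP Cfsg.Agent.H158.PronT Cfsg.Agent.H158.PronH
open Cfsg.Agent.H158.PronG Cfsg.Agent.H158.PronM2
open Cfsg.Agent.H408.Pron.Gen Cfsg.Agent.H408.Pron.Frame

/-- the symplectic group in quaternionic form -/
abbrev GU (n : Type*) [Fintype n] [DecidableEq n] (F : Type*) [Field F] := Cfsg.Agent.H158.PronMat.GU n F

variable {F : Type*} [Field F]

/-! ### quaternions -/

theorem normSq_q (h2 : (2 : F) ≠ 0) : normSq (omQ F - 1) = 3 := by
  have ht := two_half h2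
  rw [normSq_def']
  simp only [omQ, re_sub, imI_sub, imJ_sub, imK_sub, mkQ_re, mkQ_imI, mkQ_imJ, mkQ_imK, re_one, imI_one,
    imJ_one, imK_one]
  linear_combination (2 * (2 : F)⁻¹ + 2) * ht

theorem re_q (h2 : (2 : F) ≠ 0) : 2 * (omQ F - 1).re = -3 := by
  have ht := two_half h2
  simp only [omQ, re_sub, mkQ_re, re_one]
  linear_combination -ht

theorem re_conj (β q : ℍ[F]) : (star β * q * β).re = normSq β * q.re := by
  rw [normSq_def']
  simp only [_root_.Quaternion.re_mul, _root_.Quaternion.re_star, _root_.Quaternion.imI_star, _root_.neg_mul, _root_.sub_neg_eq_add, _root_.Quaternion.imJ_star, _root_.Quaternion.imK_star, _root_.Quaternion.imI_mul, _root_.Quaternion.imJ_mul, _root_.Quaternion.imK_mul]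
  ring

theorem normSq_one_add (δ : ℍ[F]) : normSq (1 + δ) = 1 + 2 * δ.re + normSq δ := by
  rw [normSq_def', normSq_def']
  simp only [_root_.Quaternion.re_add, _root_.Quaternion.re_one, _root_.Quaternion.imI_add, _root_.Quaternion.imI_one, _root_.zero_add, _root_.Quaternion.imJ_add, _root_.Quaternion.imJ_one, _root_.Quaternion.imK_add, _root_.Quaternion.imK_one]
  ring

theorem normSq_one_add_conj (h2 : (2 : F) ≠ 0) (β : ℍ[F]) :
    normSq (1 + star β * (omQ F - 1) * β) = 1 - 3 * normSq β + 3 * normSq β ^ 2 := by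
  have h1 := re_q h2
  rw [normSq_one_add, re_conj, map_mul, map_mul, normSq_star, normSq_q h2]
  linear_combination normSq β * h1

theorem imp0 (h2 : (2 : F) ≠ 0) (β : ℍ[F]) : 1 + star β * (omQ F - 1) * β ≠ 0 := by
  intro h
  have h0 : star β * (omQ F - 1) * β = -1 := by
    rw [add_comm] at h
    exact eq_neg_of_add_eq_zero_left h
  have h1 : normSq β * (omQ F - 1).re = -1 := by
    rw [← re_conj, h0]; simp
  have h4 := congrArg normSq h0
  rw [map_mul, map_mul, normSq_star, normSq_q h2, normSq_neg, map_one] at h4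
  have h5 := re_q h2
  have h6 : 3 * normSq β = 2 := by linear_combination (-2) * h1 + normSq β * h5
  have h7 : (1 : F) = 0 := by linear_combination 3 * h4 - (3 * normSq β + 2) * h6
  exact one_ne_zero h7

/-- Euler's four square identity -/
theorem euler (a c : ℍ[F]) (ha : normSq a + normSq c = 1) :
    (normSq (a + c) - 1) ^ 2 + (normSq (a + qi * c) - 1) ^ 2 + (normSq (a + qj * c) - 1) ^ 2 +
      (normSq (a + qk * c) - 1) ^ 2 = 4 * (normSq a * normSq c) := by
  rw [← ha]
  simp only [normSq_def']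
  simp only [_root_.Quaternion.re_add, _root_.Quaternion.imI_add, _root_.Quaternion.imJ_add, _root_.Quaternion.imK_add, _root_.Quaternion.re_mul, _root_.Cfsg.Agent.H158.PronQ.qi_re, _root_.MulZeroClass.zero_mul, _root_.Cfsg.Agent.H158.PronQ.qi_imI, _root_.one_mul, _root_.zero_sub, _root_.Cfsg.Agent.H158.PronQ.qi_imJ, _root_.sub_zero, _root_.Cfsg.Agent.H158.PronQ.qi_imK, _root_.Quaternion.imI_mul, _root_.zero_add, _root_.add_zero, _root_.Quaternion.imJ_mul, _root_.Quaternion.imK_mul, _root_.Cfsg.Agent.H158.PronQ.qj_re, _root_.Cfsg.Agent.H158.PronQ.qj_imI, _root_.sub_self, _root_.Cfsg.Agent.H158.PronQ.qj_imJ, _root_.Cfsg.Agent.H158.PronQ.qj_imK, _root_.Cfsg.Agent.H158.PronQ.qk_re, _root_.Cfsg.Agent.H158.PronQ.qk_imI, _root_.Cfsg.Agent.H158.PronQ.qk_imJ, _root_.Cfsg.Agent.H158.PronQ.qk_imK]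
  ring

variable {n : Type*} [Fintype n] [DecidableEq n]

theorem R_mulVec (v : n → ℍ[F]) (hv : ip v v = 1) (u : U F) (y : n → ℍ[F]) (a : n) :
    ((R v hv u : GU n F).1 *ᵥ y) a = y a + v a * (((u : ℍ[F]) - 1) * ip v y) := by
  rw [coe_R, Matrix.add_mulVec, Matrix.one_mulVec, tv_mulVec]
  rfl

theorem ip_e' (y : n → ℍ[F]) (a : n) : ip y (e a) = star (y a) := by
  rw [← star_ip, ip_e]

/-- The data: a subgroup `N` of the wreath product normalised by `H ≥ SG (Q8 F) T` and containing the frame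
reflections. -/
structure Dat (h2 : (2 : F) ≠ 0) (T : Subgroup (Perm n)) (N H : Subgroup (GU n F)) : Prop where
  sk : SG (Q8 F) T ≤ H
  nS : N ≤ SG (Q8 F) T
  norm : ∀ h ∈ H, ∀ x ∈ N, h * x * h⁻¹ ∈ N
  fr : ∀ j, Rj j nu ∈ N

namespace Dat

variable {h2 : (2 : F) ≠ 0} {T : Subgroup (Perm n)} {N H : Subgroup (GU n F)} (X : Dat h2 T N H)

include X

/-- the image of a direction -/
theorem act {y : n → ℍ[F]} {hy : ip y y = 1} (hyN : R y hy nu ∈ N) {g : GU n F} (hg : g ∈ H)
    (hgy : ip (g.1 *ᵥ y) (g.1 *ᵥ y) = 1) : R (g.1 *ᵥ y) hgy nu ∈ N := by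
  rw [← R_conj g y hy hgy]
  exact X.norm g hg _ hyN

/-- **L1**: a reflection of type `ω` and a frame direction -/
theorem l1 (h3 : (3 : F) ≠ 0) {v : n → ℍ[F]} {hv : ip v v = 1} (hvH : R v hv (om h2) ∈ H) (a : n) :
    v a = 0 ∨ (∀ c, c ≠ a → v c = 0) ∨
      ∃ c, c ≠ a ∧ swap a c ∈ T ∧ (∀ d, d ≠ a → d ≠ c → v d = 0) ∧ 6 * normSq (v a) * normSq (v c) = 1 ∧
        ∃ s : ℍ[F], 2 * normSq s = 1 ∧ ∃ w ∈ Q8 F, ∃ (y : n → ℍ[F]) (hy : ip y y = 1), R y hy nu ∈ N ∧
          (∀ d, d ≠ a → d ≠ c → y d = 0) ∧ y c = s ∧ y a = (w : ℍ[F]) * s := by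
  set x : GU n F := R v hv (om h2) with hx
  set y : n → ℍ[F] := x.1 *ᵥ e a with hy
  have hyy : ip y y = 1 := by rw [hy, ip_act, ip_e_e]
  have hyN : R y hyy nu ∈ N := X.act (y := e a) (hy := ip_e_e a) (X.fr a) hvH hyy
  have hya : ∀ c, y c = (e a : n → ℍ[F]) c + v c * ((omQ F - 1) * star (v a)) := by
    intro c
    rw [hy, hx, R_mulVec, ip_e', coe_om]
  have hyaa : y a = 1 + v a * (omQ F - 1) * star (v a) := by
    rw [hya a]
    show (Pi.single a (1 : ℍ[F]) : n → ℍ[F]) a + _ = _
    rw [Pi.single_eq_same, mul_assoc]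
  have hyc : ∀ c, c ≠ a → y c = v c * ((omQ F - 1) * star (v a)) := by
    intro c hc
    rw [hya c]
    show (Pi.single a (1 : ℍ[F]) : n → ℍ[F]) c + _ = _
    rw [Pi.single_eq_of_ne hc, zero_add]
  have hy0 : y a ≠ 0 := by
    rw [hyaa]
    have := imp0 h2 (star (v a))
    rwa [star_star] at this
  have hNa : normSq (y a) = 1 - 3 * normSq (v a) + 3 * normSq (v a) ^ 2 := by
    rw [hyaa]
    have := normSq_one_add_conj h2 (star (v a))
    rwa [star_star, normSq_star] at this
  have hNc : ∀ c, c ≠ a → normSq (y c) = 3 * (normSq (v c) * normSq (v a)) := by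
    intro c hc
    rw [hyc c hc, map_mul, map_mul, normSq_q h2, normSq_star]
    ring
  have hzero : ∀ c, c ≠ a → normSq (v a) ≠ 0 → y c = 0 → v c = 0 := by
    intro c hc hn0 h
    rw [hyc c hc] at h
    refine mul_eq_zero_right ?_ h
    rw [map_mul, normSq_q h2, normSq_star]
    exact mul_ne_zero h3 hn0
  rcases rf_mem_SG h2 (X.nS hyN) with ⟨j, hj⟩ | ⟨b, c, hbc, hsw, -, hsupp, hNb, w, hw, hwb⟩
  · -- one coordinate
    have hja : j = a := by
      by_contra hja
      exact hy0 (hj a (Ne.symm hja))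
    subst hja
    by_cases hv0 : v j = 0
    · exact Or.inl hv0
    right; left
    -- `normSq (v j) = 1`
    have h1 : ∀ c, c ≠ j → v c * ((omQ F - 1) * star (v j)) = 0 := fun c hc => by rw [← hyc c hc]; exact hj c hc
    have h5 : (omQ F - 1) * star (v j) = ((normSq (v j) : F) : ℍ[F]) * ((omQ F - 1) * star (v j)) := by
      have h6 : ip v v * ((omQ F - 1) * star (v j)) =
          star (v j) * v j * ((omQ F - 1) * star (v j)) := by
        rw [ip, Finset.sum_mul, Finset.sum_eq_single j]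
        · intro c _ hc
          rw [mul_assoc, h1 c hc, mul_zero]
        · exact fun h => absurd (Finset.mem_univ _) h
      rw [hv, one_mul, star_mul_self] at h6
      exact h6
    have h6 : ((1 : F) - normSq (v j)) • ((omQ F - 1) * star (v j)) = 0 := by
      rw [sub_smul, one_smul, ← Quaternion.coe_mul_eq_smul, ← h5, sub_self]
    have h7 : (omQ F - 1) * star (v j) ≠ 0 := by
      intro h
      apply hv0
      have h8 := mul_eq_zero_left (by rw [normSq_q h2]; exact h3) h
      exact star_eq_zero.1 h8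
    have h8 : 1 - normSq (v j) = 0 := (smul_eq_zero.1 h6).resolve_right h7
    have h9 : normSq (v j) ≠ 0 := by
      intro h
      rw [h, sub_zero] at h8
      exact one_ne_zero h8
    intro c hc
    exact hzero c hc h9 (hj c hc)
  · -- two coordinates
    right; right
    have hNb' : 2 * normSq (y b) = 1 := by
      rw [hwb, normSq_neg, map_mul, hw.normSq, one_mul]; exact hNb
    have habc : a = b ∨ a = c := by
      by_contra hcon
      push Not at hcon
      exact hy0 (hsupp a hcon.1 hcon.2)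
    have fin : ∀ c', c' ≠ a → 2 * normSq (y c') = 1 → (∀ d, d ≠ a → d ≠ c' → y d = 0) →
        (∀ d, d ≠ a → d ≠ c' → v d = 0) ∧ 6 * normSq (v a) * normSq (v c') = 1 := by
      intro c' hc' hN hs
      rw [hNc c' hc'] at hN
      have hn0 : normSq (v a) ≠ 0 := by
        intro h
        rw [h, mul_zero, mul_zero, mul_zero] at hN
        exact zero_ne_one hN
      exact ⟨fun d hd hd' => hzero d hd hn0 (hs d hd hd'), by linear_combination hN⟩
    rcases habc with rfl | rfl
    · obtain ⟨h5, h6⟩ := fin c hbc.symm hNb (fun d hd hd' => hsupp d hd hd')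
      refine ⟨c, hbc.symm, hsw, h5, h6, y c, hNb, nu * w, mul_mem nu_mem hw, y, hyy, hyN,
        fun d hd hd' => hsupp d hd hd', rfl, ?_⟩
      rw [hwb, Submonoid.coe_mul, coe_nu]; simp
    · obtain ⟨h5, h6⟩ := fin b hbc hNb' (fun d hd hd' => hsupp d hd' hd)
      refine ⟨b, hbc, by rw [Equiv.swap_comm]; exact hsw, h5, h6, y b, hNb', nu * w⁻¹, mul_mem nu_mem (inv_mem hw), y, hyy,
        hyN, fun d hd hd' => hsupp d hd' hd, rfl, ?_⟩
      rw [hwb, Submonoid.coe_mul, coe_nu]
      have h7 : ((w⁻¹ : U F) : ℍ[F]) * (w : ℍ[F]) = 1 := by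
        rw [← Submonoid.coe_mul, inv_mul_cancel]; rfl
      simp only [mul_neg, neg_mul, one_mul, neg_neg]
      rw [← mul_assoc, h7, one_mul]

omit X in
theorem sum_two {y : n → ℍ[F]} {hy : ip y y = 1} {a c : n} (hac : a ≠ c)
    (h : ∀ d, d ≠ a → d ≠ c → y d = 0) : normSq (y a) + normSq (y c) = 1 := by
  rw [← sum_normSq hy, ← Finset.sum_pair (f := fun d => normSq (y d)) hac]
  refine Finset.sum_subset (Finset.subset_univ _) fun d _ hd => ?_
  rw [Finset.mem_insert, Finset.mem_singleton, not_or] at hd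
  rw [h d hd.1 hd.2, map_zero]

omit X in
theorem ip_two {f y : n → ℍ[F]} {a c : n} (hac : a ≠ c) (h : ∀ d, d ≠ a → d ≠ c → f d = 0) :
    ip f y = star (f a) * y a + star (f c) * y c := by
  rw [ip, ← Finset.sum_pair (f := fun d => star (f d) * y d) hac]
  symm
  refine Finset.sum_subset (Finset.subset_univ _) fun d _ hd => ?_
  rw [Finset.mem_insert, Finset.mem_singleton, not_or] at hd
  rw [h d hd.1 hd.2, star_zero, zero_mul]

omit X in
theorem normSq_one_sub {w : U F} (hw : w ∈ Q8 F) :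
    (w : ℍ[F]) = 1 ∨ (w : ℍ[F]) = -1 ∨ normSq (1 - (w : ℍ[F])) = 2 := by
  rcases hw with h | h | h | h | h | h | h | h
  · exact Or.inl h
  · exact Or.inr (Or.inl h)
  all_goals
    right; right
    rw [h, normSq_def']
    simp
    norm_num

/-- **L2**: a reflection of type `ω` and the direction `(1, 1)` -/
theorem l2 (h3 : (3 : F) ≠ 0) {a c : n} (hac : a ≠ c) {s : ℍ[F]} (hs : 2 * normSq s = 1) {f : n → ℍ[F]}
    {hf : ip f f = 1} (hfa : f a = s) (hfc : f c = s) (hf0 : ∀ d, d ≠ a → d ≠ c → f d = 0)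
    (hfN : R f hf nu ∈ N) {v : n → ℍ[F]} {hv : ip v v = 1} (hvH : R v hv (om h2) ∈ H)
    (hv0 : ∀ d, d ≠ a → d ≠ c → v d = 0) :
    v a + v c = 0 ∨ v a = v c ∨ 3 * (normSq (v a + v c) - 1) ^ 2 = 1 := by
  set x : GU n F := R v hv (om h2) with hx
  set β : ℍ[F] := ip v f with hβ
  have hβ' : β = star (v a + v c) * s := by
    rw [hβ, ip_two hac hv0, hfa, hfc, star_add, add_mul]
  set y : n → ℍ[F] := x.1 *ᵥ f with hy
  have hyy : ip y y = 1 := by rw [hy, ip_act, hf]
  have hyN : R y hyy nu ∈ N := X.act hfN hvH hyy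
  have hyd : ∀ d, y d = f d + v d * ((omQ F - 1) * β) := by
    intro d
    rw [hy, hx, R_mulVec, coe_om]
  have hy0 : ∀ d, d ≠ a → d ≠ c → y d = 0 := by
    intro d hd hd'
    rw [hyd, hf0 d hd hd', hv0 d hd hd', zero_mul, add_zero]
  have hδ : ip f y = 1 + star β * (omQ F - 1) * β := by
    have h1 : y = f + fun d => v d * ((omQ F - 1) * β) := by
      funext d; rw [hyd]; rfl
    rw [h1, ip_add_right, hf, ip_smul_right, ← star_ip v f, ← hβ, mul_assoc]
  have hδ' : ip f y = star s * (y a + y c) := by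
    rw [ip_two hac hf0, hfa, hfc, mul_add]
  have hγ : 2 * normSq β = normSq (v a + v c) := by
    rw [hβ', map_mul, normSq_star]
    linear_combination normSq (v a + v c) * hs
  have hNs : normSq s ≠ 0 := by
    intro h; rw [h, mul_zero] at hs; exact zero_ne_one hs
  have hsum : normSq (v a) + normSq (v c) = 1 := sum_two (hy := hv) hac hv0
  have hsumy : normSq (y a) + normSq (y c) = 1 := sum_two (hy := hyy) hac hy0
  have hyne : y a + y c ≠ 0 := by
    intro h
    rw [h, mul_zero] at hδ'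
    rw [hδ'] at hδ
    exact imp0 h2 β hδ.symm
  -- the generic case
  have hgen : 2 * normSq (ip f y) = 1 → 3 * (normSq (v a + v c) - 1) ^ 2 = 1 := by
    intro h
    rw [hδ, normSq_one_add_conj h2] at h
    rw [← hγ]
    linear_combination 2 * h
  have hN : normSq (ip f y) = normSq s * normSq (y a + y c) := by
    rw [hδ', map_mul, normSq_star]
  have heq : y a = y c → v a + v c = 0 ∨ v a = v c := by
    intro h
    have h1 : (v a - v c) * ((omQ F - 1) * β) = 0 := by
      have h4 := hyd a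
      have h5 := hyd c
      rw [hfa] at h4
      rw [hfc] at h5
      have h6 : (v a - v c) * ((omQ F - 1) * β) = y a - y c := by
        rw [h4, h5]; noncomm_ring
      rw [h6, h, sub_self]
    have h4 : normSq (v a - v c) + normSq (v a + v c) = 2 := by
      have h5 : normSq (v a - v c) + normSq (v a + v c) = 2 * (normSq (v a) + normSq (v c)) := by
        simp only [normSq_def']
        simp only [_root_.Quaternion.re_sub, _root_.Quaternion.imI_sub, _root_.Quaternion.imJ_sub, _root_.Quaternion.imK_sub, _root_.Quaternion.re_add, _root_.Quaternion.imI_add, _root_.Quaternion.imJ_add, _root_.Quaternion.imK_add]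
        ring
      rw [h5, hsum, mul_one]
    by_cases h5 : normSq (v a - v c) = 0
    · right
      rw [h5, zero_add] at h4
      have h6 : normSq ((omQ F - 1) * β) ≠ 0 := by
        rw [map_mul, normSq_q h2, hβ', map_mul, normSq_star, h4]
        exact mul_ne_zero h3 (mul_ne_zero h2 hNs)
      exact sub_eq_zero.1 (mul_eq_zero_right h6 h1)
    · left
      have h6 := mul_eq_zero_left h5 h1
      have h7 := mul_eq_zero_left (by rw [normSq_q h2]; exact h3) h6
      rw [hβ'] at h7
      exact star_eq_zero.1 (mul_eq_zero_right hNs h7)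
  rcases rf_mem_SG h2 (X.nS hyN) with ⟨j, hj⟩ | ⟨b, d, hbd, -, -, hsupp, hNd, w, hw, hwb⟩
  · right; right
    apply hgen
    rw [hN]
    by_cases hja : j = a
    · have h4 : y c = 0 := hj c (by rw [hja]; exact hac.symm)
      rw [h4, map_zero, add_zero] at hsumy
      rw [h4, add_zero, hsumy, mul_one]; exact hs
    · have h4 : y a = 0 := hj a (Ne.symm hja)
      rw [h4, map_zero, zero_add] at hsumy
      rw [h4, zero_add, hsumy, mul_one]; exact hs
  · have hdne : y d ≠ 0 := by
      intro h; rw [h, map_zero, mul_zero] at hNd; exact zero_ne_one hNd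
    have hbne : y b ≠ 0 := by
      intro h
      rw [h] at hwb
      have h4 := neg_eq_zero.1 hwb.symm
      exact hdne (mul_eq_zero_left (by rw [hw.normSq]; exact one_ne_zero) h4)
    have hb : b = a ∨ b = c := by
      by_contra hcon
      push Not at hcon
      exact hbne (hy0 b hcon.1 hcon.2)
    have hd : d = a ∨ d = c := by
      by_contra hcon
      push Not at hcon
      exact hdne (hy0 d hcon.1 hcon.2)
    have hsm : y a + y c = (1 - (w : ℍ[F])) * y d := by
      have h4 : (1 - (w : ℍ[F])) * y d = y b + y d := by rw [hwb]; noncomm_ring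
      rw [h4]
      rcases hb with rfl | rfl <;> rcases hd with rfl | rfl
      · exact absurd rfl hbd
      · rfl
      · rw [add_comm]
      · exact absurd rfl hbd
    rcases normSq_one_sub hw with h4 | h4 | h4
    · exfalso
      rw [h4, sub_self, zero_mul] at hsm
      exact hyne hsm
    · have h5 : y a = y c := by
        rw [h4] at hwb
        have h6 : y b = y d := by rw [hwb]; noncomm_ring
        rcases hb with rfl | rfl <;> rcases hd with rfl | rfl
        · exact absurd rfl hbd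
        · exact h6
        · exact h6.symm
        · exact absurd rfl hbd
      rcases heq h5 with h6 | h6
      · exact Or.inl h6
      · exact Or.inr (Or.inl h6)
    · right; right
      apply hgen
      rw [hN, hsm, map_mul, h4]
      linear_combination hs + 2 * normSq s * hNd

omit X in
theorem Rj_mulVec (c : n) (u : U F) (v : n → ℍ[F]) (d : n) :
    ((Rj c u : GU n F).1 *ᵥ v) d = if d = c then (u : ℍ[F]) * v d else v d := by
  rw [Rj_eq_D]
  show (Matrix.diagonal (fun b => (((if b = c then u else 1 : U F)) : ℍ[F])) *ᵥ v) d = _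
  rw [Matrix.mulVec_diagonal]
  split_ifs with h
  · rfl
  · show (1 : ℍ[F]) * v d = v d
    rw [one_mul]

/-- **The directions of the reflections of type `ω` are frame directions.** -/
theorem frame_of_om (h3 : (3 : F) ≠ 0) {v : n → ℍ[F]} {hv : ip v v = 1} (hvH : R v hv (om h2) ∈ H) :
    ∃ j, ∀ c, c ≠ j → v c = 0 := by
  obtain ⟨a, ha⟩ : ∃ a, v a ≠ 0 := by
    by_contra hcon
    push Not at hcon
    rw [ip, Finset.sum_eq_zero fun c _ => by rw [hcon c, mul_zero]] at hv
    exact zero_ne_one hv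
  rcases X.l1 h3 hvH a with h | h | ⟨c, hca, hsw, hv0, h6, s, hs, w, hw, y, hy, hyN, hy0, hyc, hya⟩
  · exact absurd h ha
  · exact ⟨a, h⟩
  exfalso
  have hac : a ≠ c := hca.symm
  have hRj : ∀ j, ∀ u ∈ Q8 F, (Rj j u : GU n F) ∈ H := fun j u hu => X.sk (Rj_mem _ j hu)
  -- the direction `(1, 1)`
  set f : n → ℍ[F] := (Rj a w⁻¹ : GU n F).1 *ᵥ y with hf
  have hff : ip f f = 1 := by rw [hf, ip_act, hy]
  have hfN : R f hff nu ∈ N := X.act hyN (hRj a w⁻¹ (inv_mem hw)) hff
  have hfa : f a = s := by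
    rw [hf, Rj_mulVec, if_pos rfl, hya, ← mul_assoc]
    have h7 : ((w⁻¹ : U F) : ℍ[F]) * (w : ℍ[F]) = 1 := by
      rw [← Submonoid.coe_mul, inv_mul_cancel]; rfl
    rw [h7, one_mul]
  have hfc : f c = s := by
    rw [hf, Rj_mulVec, if_neg hca, hyc]
  have hf0 : ∀ d, d ≠ a → d ≠ c → f d = 0 := by
    intro d hd hd'
    rw [hf, Rj_mulVec, if_neg hd, hy0 d hd hd']
  have hsum : normSq (v a) + normSq (v c) = 1 := sum_two (hy := hv) hac hv0
  have key : ∀ u ∈ Q8 F, 3 * (normSq (v a + (u : ℍ[F]) * v c) - 1) ^ 2 = 1 := by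
    intro u hu
    set v' : n → ℍ[F] := (Rj c u : GU n F).1 *ᵥ v with hv'
    have hvv : ip v' v' = 1 := by rw [hv', ip_act, hv]
    have hv'H : R v' hvv (om h2) ∈ H := by
      rw [← R_conj (Rj c u) v hv hvv]
      exact mul_mem (mul_mem (hRj c u hu) hvH) (inv_mem (hRj c u hu))
    have e1 : v' a = v a := by rw [hv', Rj_mulVec, if_neg hac]
    have e2 : v' c = (u : ℍ[F]) * v c := by rw [hv', Rj_mulVec, if_pos rfl]
    have hv'0 : ∀ d, d ≠ a → d ≠ c → v' d = 0 := by
      intro d hd hd'
      rw [hv', Rj_mulVec, if_neg hd', hv0 d hd hd']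
    have hcon : normSq (v a) = normSq (v c) → False := by
      intro h
      rw [h] at hsum h6
      have h8 : (2 : F) = 0 := by linear_combination 4 * h6 - 6 * (2 * normSq (v c) + 1) * hsum
      exact h2 h8
    have h7 := X.l2 h3 hac hs hfa hfc hf0 hfN hv'H hv'0
    rw [e1, e2] at h7
    rcases h7 with h7 | h7 | h7
    · exfalso
      apply hcon
      rw [eq_neg_of_add_eq_zero_left h7, normSq_neg, map_mul, hu.normSq, one_mul]
    · exfalso
      apply hcon
      rw [h7, map_mul, hu.normSq, one_mul]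
    · exact h7
  have k1 := key 1 (one_mem _)
  have k2 := key uI uI_mem
  have k3 := key uJ (Or.inr (Or.inr (Or.inr (Or.inr (Or.inl rfl)))))
  have k4 := key uK (Or.inr (Or.inr (Or.inr (Or.inr (Or.inr (Or.inr (Or.inl rfl)))))))
  have h1 : ((1 : U F) : ℍ[F]) = 1 := rfl
  rw [h1, one_mul] at k1
  rw [coe_uI] at k2
  rw [coe_uJ] at k3
  rw [coe_uK] at k4
  have h5 := euler (v a) (v c) hsum
  have h8 : (2 : F) = 0 := by linear_combination -k1 - k2 - k3 - k4 + 3 * h5 + 2 * h6
  exact h2 h8

end Dat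

end Cfsg.Agent.H408.Hall.SpRefl
end

-- part: H408/Hall/SpThree
section
set_option linter.all false
open scoped Cfsg.Agent.FastGrp

/-!
# A Sylow 3-subgroup and the frame reflections (helper408)
-/

set_option autoImplicit false
set_option linter.unusedSectionVars false

namespace Cfsg.Agent.H408.Hall.SpThree

open Quaternion Matrix Equiv
open Cfsg.Agent.H158.PronQ Cfsg.Agent.H158.PronMat Cfsg.Agent.H158.PronMono
open Cfsg.Agent.H158.PronFrame Cfsg.Agent.H158.PronTwo Cfsg.Agent.H158.PronAvg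
open Cfsg.Agent.H158.PronK Cfsg.Agent.H158.PronP Cfsg.Agent.H158.PronT Cfsg.Agent.H158.PronH
open Cfsg.Agent.H158.PronG Cfsg.Agent.H158.PronM2
open Cfsg.Agent.H408.Pron.Gen Cfsg.Agent.H408.Pron.Frame
open Cfsg.Agent.H408.Hall.SpMono Cfsg.Agent.H408.Hall.SpRefl

/-- the symplectic group in quaternionic form -/
abbrev GU (n : Type*) [Fintype n] [DecidableEq n] (F : Type*) [Field F] := Cfsg.Agent.H158.PronMat.GU n F

variable {F : Type*} [Field F] {n : Type*} [Fintype n] [DecidableEq n]

theorem exists_conj_om [Finite F] (h2 : (2 : F) ≠ 0) {H : Subgroup (GU n F)} (hH : ¬ 3 ∣ H.index) :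
    ∃ g : GU n F, ∀ j, g * Rj j (om h2) * g⁻¹ ∈ H := by
  have : Fact (Nat.Prime 3) := ⟨Nat.prime_three⟩
  set E : Subgroup (GU n F) :=
    (Subgroup.pi Set.univ fun _ : n => Subgroup.zpowers (om h2 : U F)).map (D : (n → U F) →* GU n F) with hE
  have hE3 : IsPGroup 3 E := by
    rintro ⟨_, d, hd, rfl⟩
    refine ⟨1, Subtype.ext ?_⟩
    show (D d) ^ 3 ^ 1 = 1
    rw [pow_one, ← map_pow]
    have h1 : d ^ 3 = 1 := by
      funext b
      obtain ⟨k, hk⟩ := Subgroup.mem_zpowers_iff.1 (hd b (Set.mem_univ b))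
      show d b ^ 3 = 1
      rw [← hk, ← zpow_natCast, ← _root_.zpow_mul, _root_.mul_comm, _root_.zpow_mul, zpow_natCast, om_cube,
        _root_.one_zpow]
    rw [h1, map_one]
  obtain ⟨P', hP'⟩ := hE3.exists_le_sylow
  obtain ⟨P, hP⟩ := Own.exists_sylow_le (p := 3) hH
  obtain ⟨g, hg⟩ := MulAction.exists_smul_eq (GU n F) P' P
  refine ⟨g, fun j => hP ?_⟩
  have h1 : Rj j (om h2) ∈ (P' : Subgroup (GU n F)) := by
    apply hP'
    rw [Rj_eq_D]
    refine ⟨_, fun b _ => ?_, rfl⟩
    show (if b = j then om h2 else 1) ∈ Subgroup.zpowers (om h2 : U F)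
    split_ifs
    · exact Subgroup.mem_zpowers _
    · exact one_mem _
  rw [← hg, Sylow.coe_subgroup_smul]
  exact Subgroup.smul_mem_pointwise_smul _ (MulAut.conj g) _ h1

theorem mono_of_dat [Finite F] {h2 : (2 : F) ≠ 0} (h3 : (3 : F) ≠ 0) {T : Subgroup (Perm n)} {N H : Subgroup (GU n F)}
    (X : Dat h2 T N H) (hH : ¬ 3 ∣ H.index) : H ≤ MM := by
  obtain ⟨g, hg⟩ := exists_conj_om h2 hH
  set v : n → n → ℍ[F] := fun j => g.1 *ᵥ e j with hv
  have hip : ∀ i j, ip (v i) (v j) = ip (e i) (e j : n → ℍ[F]) := fun i j => ip_act g _ _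
  have hvv : ∀ j, ip (v j) (v j) = 1 := fun j => by rw [hip, ip_e_e]
  have hvH : ∀ j, R (v j) (hvv j) (om h2) ∈ H := by
    intro j
    have h1 := hg j
    rwa [Rj, R_conj g (e j) (ip_e_e j) (hvv j)] at h1
  have hfr : ∀ j, ∃ k, ∀ c, c ≠ k → v j c = 0 := fun j => X.frame_of_om h3 (hvH j)
  choose s hs using hfr
  have hN : ∀ j, normSq (v j (s j)) = 1 := by
    intro j
    have h1 := sum_normSq (hvv j)
    rwa [Finset.sum_eq_single (s j) (fun c _ hc => by rw [hs j c hc, map_zero])
      (fun h => absurd (Finset.mem_univ _) h)] at h1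
  have hinj : Function.Injective s := by
    intro i j hij
    by_contra hne
    have h1 := hip i j
    rw [ip_e, ip, Finset.sum_eq_single (s i) (fun c _ hc => by rw [hs i c hc, star_zero, zero_mul])
      (fun h => absurd (Finset.mem_univ _) h)] at h1
    have h4 : (e j : n → ℍ[F]) i = 0 := Pi.single_eq_of_ne hne 1
    rw [h4] at h1
    have h5 := mul_eq_zero_left (by rw [normSq_star, hN]; exact one_ne_zero) h1
    have h6 := hN j
    rw [← hij, h5, map_zero] at h6
    exact zero_ne_one h6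
  have hsurj : Function.Surjective s := Finite.surjective_of_injective hinj
  intro h hh
  rw [mem_MM]
  apply Cfsg.Agent.H158.PronA.mono_of_cols
  intro b
  obtain ⟨j, rfl⟩ := hsurj b
  have hvj : v j = fun a => (e (s j) : n → ℍ[F]) a * v j (s j) := by
    funext a
    rw [e_mul_apply]
    split_ifs with ha
    · rw [ha]
    · exact hs j a ha
  have hw : ip (h.1 *ᵥ v j) (h.1 *ᵥ v j) = 1 := by rw [ip_act, hvv]
  have hwH : R (h.1 *ᵥ v j) hw (om h2) ∈ H := by
    rw [← R_conj h (v j) (hvv j) hw]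
    exact mul_mem (mul_mem hh (hvH j)) (inv_mem hh)
  obtain ⟨k, hk⟩ := X.frame_of_om h3 hwH
  refine ⟨k, fun a ha => ?_⟩
  have h1 := hk a ha
  rw [hvj, mulVec_smul_right] at h1
  have h4 := mul_eq_zero_right (by rw [hN]; exact one_ne_zero) h1
  rwa [Cfsg.Agent.H158.PronMono.mulVec_e] at h4

end Cfsg.Agent.H408.Hall.SpThree
end

-- part: H408/Hall/SpTwo
section
prune_inst 0x240008006822000000000500902000201000000200430000804002000308c00000048601023000160280080000000040001000000200000000000000000000209000000012000104240001800000000000000000000000000000000000000000000000000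
set_option linter.all false
open scoped Cfsg.Agent.FastGrp

/-!
# The frame reflections are in the 2-core of a Hall subgroup of order prime to the characteristic (helper408)
-/

set_option autoImplicit false
set_option linter.unusedSectionVars false

namespace Cfsg.Agent.H408.Hall.SpTwo

open Quaternion Matrix Equiv Module Polynomial
open Cfsg.Agent.H158.PronQ Cfsg.Agent.H158.PronMat Cfsg.Agent.H158.PronMono Cfsg.Agent.H158.PronSp
open Cfsg.Agent.H158.PronFrame Cfsg.Agent.H158.PronTwo Cfsg.Agent.H158.PronAvg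
open Cfsg.Agent.H158.PronK Cfsg.Agent.H158.PronP Cfsg.Agent.H158.PronT Cfsg.Agent.H158.PronH
open Cfsg.Agent.H158.PronG Cfsg.Agent.H158.PronM2
open Cfsg.Agent.H408.Pron.Gen Cfsg.Agent.H408.Pron.Frame
open Cfsg.Agent.H575.Hall
open Cfsg.Agent.H408.Hall.SpMono Cfsg.Agent.H408.Hall.SpRefl Cfsg.Agent.H408.Hall.SpThree

/-- the symplectic group in quaternionic form -/
abbrev GU (n : Type*) [Fintype n] [DecidableEq n] (F : Type*) [Field F] := Cfsg.Agent.H158.PronMat.GU n F

section Form

variable {K : Type*} [Field K] {n : Type*} [Fintype n] [DecidableEq n]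

/-- the invariant form -/
noncomputable def frm (K : Type*) [Field K] (n : Type*) [Fintype n] [DecidableEq n] :
    (n ⊕ n → K) →ₗ[K] (n ⊕ n → K) →ₗ[K] K :=
  Matrix.toLinearMap₂' K (Matrix.J n K)

theorem frm_apply (v w : n ⊕ n → K) :
    frm K n v w = ∑ i, (v (Sum.inr i) * w (Sum.inl i) - v (Sum.inl i) * w (Sum.inr i)) := by
  rw [frm, Matrix.toLinearMap₂'_apply']
  have h : (Matrix.J n K) *ᵥ w = Sum.elim (fun i => - w (Sum.inr i)) (fun i => w (Sum.inl i)) := by
    rw [Matrix.J, ← Sum.elim_comp_inl_inr w, fromBlocks_mulVec]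
    simp only [zero_mulVec, one_mulVec, neg_mulVec, zero_add, add_zero, Sum.elim_comp_inl, Sum.elim_comp_inr]
    rfl
  rw [h, dotProduct, Fintype.sum_sum_type, ← Finset.sum_add_distrib]
  refine Finset.sum_congr rfl fun i _ => ?_
  simp
  ring

theorem frm_pres {A : Matrix (n ⊕ n) (n ⊕ n) K} (hA : A ∈ Matrix.symplecticGroup n K)
    (v w : n ⊕ n → K) : frm K n (A *ᵥ v) (A *ᵥ w) = frm K n v w := by
  rw [frm, Matrix.toLinearMap₂'_apply', Matrix.toLinearMap₂'_apply']
  have h := SymplecticGroup.mem_iff'.1 hA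
  rw [← vecMul_transpose A v, ← dotProduct_mulVec, mulVec_mulVec, mulVec_mulVec, h]

theorem frm_alt (v : n ⊕ n → K) : frm K n v v = 0 := by
  rw [frm_apply]
  exact Finset.sum_eq_zero fun i _ => by ring

theorem frm_nondeg (v : n ⊕ n → K) (h : ∀ w, frm K n w v = 0) : v = 0 := by
  funext i
  rcases i with i | i
  · have h1 := h (Pi.single (Sum.inr i) 1)
    rw [frm_apply, Finset.sum_eq_single i] at h1
    · simpa using h1
    · intro j _ hj
      simp [hj]
    · intro h2
      exact absurd (Finset.mem_univ i) h2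
  · have h1 := h (Pi.single (Sum.inl i) 1)
    rw [frm_apply, Finset.sum_eq_single i] at h1
    · simpa using h1
    · intro j _ hj
      simp [hj]
    · intro h2
      exact absurd (Finset.mem_univ i) h2

end Form

section

variable {F : Type*} [Field F] {K : Type*} [Field K] [Algebra F K] {n : Type*} [Fintype n] [DecidableEq n] {a b : F}

theorem mat_mem (hab : a * a + b * b = -1) (g : GU n F) : mat K a b g.1 ∈ Matrix.symplecticGroup n K := by
  have h1 := congrArg (fun M : Matrix _ _ F => M.map (algebraMap F K)) (SymplecticGroup.mem_iff.1 (toSp hab g).2)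
  rw [SymplecticGroup.mem_iff]
  have hJ : (Matrix.J n F).map (algebraMap F K) = Matrix.J n K := by
    rw [Matrix.J, Matrix.J, fromBlocks_map]
    congr 1
    · exact Matrix.map_zero _ (map_zero _)
    · ext a b; simp [Matrix.one_apply]
    · exact Matrix.map_one _ (map_zero _) (map_one _)
    · exact Matrix.map_zero _ (map_zero _)
  have h3 : (((toSp hab g : Matrix.symplecticGroup n F) : Matrix (n ⊕ n) (n ⊕ n) F) * Matrix.J n F *
      ((toSp hab g : Matrix.symplecticGroup n F) : Matrix (n ⊕ n) (n ⊕ n) F)ᵀ).map (algebraMap F K) =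
        mat K a b g.1 * Matrix.J n K * (mat K a b g.1)ᵀ := by
    rw [Matrix.map_mul, Matrix.map_mul, hJ]
    rfl
  rw [← h3]
  exact h1.trans hJ

theorem frm_rho (hab : a * a + b * b = -1) (g : GU n F) (v w : n ⊕ n → K) :
    frm K n (rho K hab g v) (rho K hab g w) = frm K n v w := by
  rw [rho_apply, rho_apply, frm_pres (mat_mem hab g)]

theorem uI_mul : (uI : U F) * uI = nu := by
  apply Subtype.ext
  show (qi : ℍ[F]) * qi = -1
  apply Quaternion.ext <;> simp

/-- `Rj j h` fixes the vectors without `j`-coordinates -/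
theorem rho_Rj_fix (hab : a * a + b * b = -1) (j : n) (h : U F) {v : n ⊕ n → K} (h1 : v (Sum.inl j) = 0)
    (h2 : v (Sum.inr j) = 0) : rho K hab (Rj j h) v = v := by
  funext x
  have hm : Mono (Rj j h : GU n F).1 (1 : Perm n) := Rj_mono j h
  rcases x with c | c
  · by_cases hc : c = j
    · subst hc
      have := rho_inl (K := K) hab hm v c
      rw [h1, h2, mul_zero, mul_zero, add_zero] at this
      exact this.trans h1.symm
    · exact (rho_Rj_ne hab hc h v).1
  · by_cases hc : c = j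
    · subst hc
      have := rho_inr (K := K) hab hm v c
      rw [h1, h2, mul_zero, mul_zero, add_zero] at this
      exact this.trans h2.symm
    · exact (rho_Rj_ne hab hc h v).2

theorem range_le (hab : a * a + b * b = -1) (j : n) (h : U F) :
    LinearMap.range (rho K hab (Rj j h) - 1) ≤ Ui K j := by
  rintro _ ⟨v, rfl⟩ c hc
  rw [LinearMap.sub_apply, Module.End.one_apply, Pi.sub_apply, Pi.sub_apply, (rho_Rj_ne hab hc h v).1,
    (rho_Rj_ne hab hc h v).2, sub_self, sub_self]
  exact ⟨rfl, rfl⟩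

theorem finrank_le (hab : a * a + b * b = -1) {i : K} (hi : i * i = -1) (j : n) :
    finrank K (LinearMap.range (aeval (rho K hab (Rj j uI)) ((X - C 1) * (X - C i)))) ≤ 1 := by
  set ρ : (n ⊕ n → K) →ₗ[K] (n ⊕ n → K) := rho K hab (Rj j uI) with hρ
  have hE : ∀ v, aeval ρ ((X - C 1) * (X - C i)) v = ρ (ρ v) - i • ρ v - (ρ v - i • v) := by
    intro v
    rw [map_mul, map_sub (aeval _), map_sub (aeval _), aeval_X, aeval_C, aeval_C, map_one, Module.End.mul_apply,
      LinearMap.sub_apply, Module.End.one_apply, LinearMap.sub_apply, Module.algebraMap_end_apply, map_sub, map_smul]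
  have hρ2 : ∀ v, ρ (ρ v) = rho K hab (Rj j nu) v := by
    intro v
    rw [← uI_mul, map_mul, map_mul, Module.End.mul_apply]
  -- the range lies in the plane
  have hle : LinearMap.range (aeval ρ ((X - C 1) * (X - C i))) ≤ Ui K j := by
    rintro _ ⟨v, rfl⟩
    apply range_le hab j uI
    refine ⟨ρ v - i • v, ?_⟩
    rw [hE, LinearMap.sub_apply, Module.End.one_apply, map_sub, map_smul]
  have heig : ∀ u ∈ LinearMap.range (aeval ρ ((X - C 1) * (X - C i))), ρ u = -(i • u) := by
    rintro _ ⟨v, rfl⟩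
    have hw : ρ (ρ (ρ v) + v) = ρ (ρ v) + v := by
      apply rho_Rj_fix hab j uI
      · rw [hρ2, Pi.add_apply, (rho_t_self hab j v).1, neg_add_cancel]
      · rw [hρ2, Pi.add_apply, (rho_t_self hab j v).2, neg_add_cancel]
    rw [map_add] at hw
    rw [hE, map_sub, map_sub, map_sub, map_smul, map_smul, smul_sub, smul_sub, smul_sub, smul_smul, smul_smul, hi]
    have h3 : ρ (ρ (ρ v)) = ρ (ρ v) + v - ρ v := eq_sub_of_add_eq hw
    rw [h3]
    module
  by_contra hcon
  have h2 : Ui K j = LinearMap.range (aeval ρ ((X - C 1) * (X - C i))) := by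
    symm
    apply Submodule.eq_of_le_of_finrank_le hle
    rw [finrank_Ui]
    omega
  set v : n ⊕ n → K := Sum.elim (Pi.single j 1) 0 with hv
  have hvU : v ∈ Ui K j := by
    intro c hc
    rw [hv, Sum.elim_inl, Sum.elim_inr, Pi.single_eq_of_ne hc]
    exact ⟨rfl, rfl⟩
  have h3 := congrFun (heig v (h2 ▸ hvU)) (Sum.inl j)
  have hm : Mono (Rj j uI : GU n F).1 (1 : Perm n) := Rj_mono j uI
  have h4 := rho_inl (K := K) hab hm v j
  rw [Equiv.Perm.one_apply, Rj_entry, coe_uI] at h4
  have h5 : toM a b (qi : ℍ[F]) 0 0 = 0 := by simp [toM]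
  rw [h5, map_zero, zero_mul, zero_add, hv, Sum.elim_inr, Pi.zero_apply, mul_zero] at h4
  rw [hv] at h3
  rw [← hρ, ← hv] at h4
  rw [← hv, h4, Pi.neg_apply, Pi.smul_apply, hv, Sum.elim_inl, Pi.single_eq_same, smul_eq_mul, mul_one] at h3
  have h6 : i = 0 := by rw [← neg_eq_zero]; exact h3.symm
  rw [h6, mul_zero] at hi
  exact one_ne_zero (neg_eq_zero.1 hi.symm)

end

section

variable {F : Type} [Field F] [Finite F] {n : Type*} [Fintype n] [DecidableEq n]

/-- **the frame reflections are in the 2-core** -/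
theorem z_mem {p : ℕ} [Fact p.Prime] [CharP F p] (h2 : (2 : F) ≠ 0) {H : Subgroup (GU n F)}
    (hp : ¬ p ∣ Nat.card H) {j : n} (hy : Rj j uI ∈ H) :
    Rj j nu ∈ (Cfsg.pCore 2 H).map H.subtype := by
  obtain ⟨K, hK, hKf, hKa, i, hi⟩ := Cfsg.Agent.H563.RV.exists_i F
  have hKp : CharP K p := charP_of_injective_algebraMap (algebraMap F K).injective p
  have htwoK : (2 : K) ≠ 0 := by
    intro h
    apply h2
    apply (algebraMap F K).injective
    rw [map_ofNat, map_zero]
    exact h
  obtain ⟨a, b, hab⟩ := exists_sq_add_sq (-1 : F)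
  let σ : Representation K H (n ⊕ n → K) := (rho K hab).comp H.subtype
  have hinj : ∀ x, σ x = 1 → x = 1 := by
    intro x hx
    apply Subtype.ext
    exact rho_injective (K := K) hab h2 (hx.trans (map_one (rho K hab)).symm)
  let y : H := ⟨Rj j uI, hy⟩
  have hy2 : (y ^ 2 : H) = ⟨Rj j uI, hy⟩ * ⟨Rj j uI, hy⟩ := pow_two _
  have hz : ((y ^ 2 ^ 1 : H) : GU n F) = Rj j nu := by
    rw [pow_one, pow_two]
    show Rj j uI * Rj j uI = Rj j nu
    rw [← map_mul, uI_mul]
  have hz4 : (Rj j nu : GU n F) * Rj j nu = 1 := by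
    rw [← map_mul]
    have : (nu : U F) * nu = 1 := by
      show (-1 : U F) * -1 = 1
      simp
    rw [this, map_one]
  have key : y ^ 2 ^ 1 ∈ Cfsg.pCore 2 H := by
    refine MTwo.mem_pCore_of_rank (p := p) hp σ (y := y) (g := (X - C 1) * (X - C i))
      (mul_ne_zero (X_sub_C_ne_zero _) (X_sub_C_ne_zero _)) (j := 1) (r := 1) ?_ ?_ ?_ ?_
    · refine natDegree_mul_le.trans ?_
      rw [natDegree_X_sub_C, natDegree_X_sub_C]
      norm_num
    · exact finrank_le hab hi j
    · apply Subtype.ext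
      have h1 : (y ^ 2 ^ (1 + 1) : H) = y ^ 2 ^ 1 * y ^ 2 ^ 1 := by
        rw [← pow_add]
        norm_num
      rw [h1, Subgroup.coe_mul, hz, hz4]
      rfl
    · intro z hz' hzt hzr
      apply hinj
      have htt : y ^ 2 ^ 1 * y ^ 2 ^ 1 = 1 := by
        apply Subtype.ext
        rw [Subgroup.coe_mul, hz, hz4]
        rfl
      refine Cfsg.Agent.H563.RV.inv_trivial htwoK (frm K n) frm_alt frm_nondeg (x' := σ z⁻¹) (t := σ (y ^ 2 ^ 1))
        (fun v w => frm_rho hab _ v w) (fun v w => frm_rho hab _ v w) ?_ ?_ ?_ ?_ (N := orderOf z) hz' ?_ ?_ hzr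
      · rw [← map_mul, mul_inv_cancel, map_one]
      · rw [← map_mul, inv_mul_cancel, map_one]
      · rw [← map_mul, htt, map_one]
      · rw [← map_mul, ← map_mul, ← hzt, inv_mul_cancel_right]
      · rw [Ne, CharP.cast_eq_zero_iff K p]
        intro hd
        exact hp (hd.trans (orderOf_dvd_natCard z))
      · rw [← map_pow, pow_orderOf_eq_one, map_one]
  exact ⟨_, key, hz⟩

theorem Rj_mem_of {T : Subgroup (Perm n)} {H : Subgroup (GU n F)} (hS : SG (Q8 F) T ≤ H) (j : n) {w : U F}
    (hw : w ∈ Q8 F) : Rj j w ∈ H := hS (Rj_mem _ j hw)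

/-- the data of `SpThree` -/
theorem dat {p : ℕ} [Fact p.Prime] [CharP F p] (h2 : (2 : F) ≠ 0) (hns : ¬ IsSquare (2 : F))
    (T : Sylow 2 (Perm n)) {H : Subgroup (GU n F)} (hS : SG (Q8 F) (T : Subgroup (Perm n)) ≤ H)
    (hp : ¬ p ∣ Nat.card H) : Dat h2 (T : Subgroup (Perm n)) ((Cfsg.pCore 2 H).map H.subtype) H := by
  have : Fact (Nat.Prime 2) := ⟨Nat.prime_two⟩
  have hnorm : ∀ h ∈ H, ∀ x ∈ (Cfsg.pCore 2 H).map H.subtype, h * x * h⁻¹ ∈ (Cfsg.pCore 2 H).map H.subtype := by
    rintro h hh _ ⟨x, hx, rfl⟩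
    have hn : (Cfsg.pCore 2 H).Normal := inferInstance
    exact ⟨_, hn.conj_mem x hx ⟨h, hh⟩, rfl⟩
  refine ⟨hS, ?_, hnorm, fun j => z_mem h2 hp (Rj_mem_of hS j uI_mem)⟩
  obtain ⟨P, hP⟩ := exists_sylow_gen h2 hns T
  set N : Subgroup (GU n F) := (Cfsg.pCore 2 H).map H.subtype with hN
  have hp2 : IsPGroup 2 N := by
    have h1 : IsPGroup 2 (Cfsg.pCore 2 H) := Cfsg.Agent.Lib.Cores.pCore_isPGroup 2
    exact h1.map _
  have hnorm' : ∀ g ∈ (P : Subgroup (GU n F)), g ∈ Subgroup.normalizer (N : Set (GU n F)) := by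
    intro g hg
    have hgH : g ∈ H := hS (hP ▸ hg)
    rw [Subgroup.mem_normalizer_iff]
    intro m
    constructor
    · exact fun h => hnorm g hgH m h
    · intro h
      have := hnorm g⁻¹ (H.inv_mem hgH) _ h
      simpa [mul_assoc] using this
  have hsup : IsPGroup 2 (((P : Subgroup (GU n F)) ⊔ N : Subgroup (GU n F))) :=
    P.isPGroup'.to_sup_of_normal_right' hp2 hnorm'
  rw [← hP]
  exact le_sup_right.trans (le_of_eq (P.is_maximal' hsup le_sup_left))

end

end Cfsg.Agent.H408.Hall.SpTwo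

private theorem dce_d603e2a71d51 : _root_.True := by
  try have : _root_.True := by simp only [_root_.Cfsg.Agent.H408.Hall.SpTwo.frm.eq_1]
  exact _root_.True.intro
end
end
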