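import Cfsg.Agent.H671.KGV.Lift
import Cfsg.Agent.Involutions.BaerSuzuki
import Mathlib
import Cfsg.Agent.H125.Hall.Defs
import Cfsg.Agent.H408.Pron.Gen
import Cfsg.Agent.Lib.DihedralRecog
import Cfsg.Agent.H553.OddHall_m3
import Cfsg.Agent.H165.RV.Defs
import Cfsg.Agent.FastGrp
import Cfsg.Agent.Prune
set_option linter.all false

section
prune_inst 0x7f00000000000000000000000000000000000000000000000000000000000000000000000000000000000000000000000000000000000000000000000000000000000000000000000000000000000000003fffffffe3fefffffffff7ffffffaeffbdf7ffffff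

-- part: H408/Hall/MTwo
section
set_option linter.all false
open scoped Cfsg.Agent.FastGrp

-- part: H408/Hall/RedTwo
section
/-!
# Reduction modulo 2 of a `p'`-group of matrices in characteristic `p` (helper408)

`exists_char_two`: a representation `σ` in characteristic `p` of a finite group of order prime to `p` has a
"reduction modulo 2": a representation `τ` in characteristic 2 with
`rank (σ x - 1) ≤ rank (τ x - 1)` for `x` of odd order and
`rank ((τ y - 1) ^ deg g) ≤ rank (g (σ y))` for `y` a 2-element and `g` a nonzero polynomial.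
-/

set_option autoImplicit false

universe u

namespace Cfsg.Agent.H408.Hall.RedTwo

open Cfsg Module Polynomial IsLocalRing Cfsg.Agent.H657 Cfsg.Agent.H671.KGV Cfsg.Agent.H644.KGV

attribute [local instance] Above.isAlgClosed

/-! ### valuation subrings -/

/-- The rank of the residue of a matrix. -/
theorem rank_residue_le {V : ValuationSubring ℂ} {m n : Type*} [Fintype m] [Fintype n]
    (A : Matrix m n V) : (A.map (residue V)).rank ≤ (A.map (algebraMap V ℂ)).rank := by
  classical
  obtain ⟨κ, a, ha, hsp, hli⟩ := exists_linearIndependent' (ResidueField V) (A.map (residue V)).col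
  have hfin : Finite κ := Finite.of_injective a ha
  have : Fintype κ := Fintype.ofFinite κ
  have h1 : (A.map (residue V)).rank = Fintype.card κ := by
    rw [Matrix.rank_eq_finrank_span_cols, ← hsp, finrank_span_eq_card hli]
  have h2 : LinearIndependent ℂ (fun i => (A.map (algebraMap V ℂ)).col (a i)) := by
    rw [Fintype.linearIndependent_iff]
    intro c hc
    by_contra hcon
    push Not at hcon
    obtain ⟨i1, hi1⟩ := hcon
    have : Nonempty κ := ⟨i1⟩
    obtain ⟨i0, hi0⟩ := Finite.exists_max (fun i => V.valuation (c i))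
    have hc0 : c i0 ≠ 0 := by
      intro h0
      have h3 := hi0 i1
      rw [h0, map_zero] at h3
      exact hi1 ((map_eq_zero V.valuation).1 (le_antisymm h3 zero_le))
    have hd : ∀ i, c i / c i0 ∈ V := by
      intro i
      rw [← V.valuation_le_one_iff, map_div₀]
      exact div_le_one_of_le₀ (hi0 i) zero_le
    rw [Fintype.linearIndependent_iff] at hli
    have h3 := hli (fun i => residue V ⟨c i / c i0, hd i⟩) ?_ i0
    · have h4 : (⟨c i0 / c i0, hd i0⟩ : V) = 1 := Subtype.ext (div_self hc0)
      rw [h4, map_one] at h3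
      exact one_ne_zero h3
    · funext j
      have h5 : ∑ i, (⟨c i / c i0, hd i⟩ : V) * A j (a i) = 0 := by
        apply Subtype.ext
        have h6 := congrFun hc j
        rw [Finset.sum_apply] at h6
        have h7 : ∑ i, c i * ((A j (a i) : V) : ℂ) = 0 := h6
        push_cast
        have h8 : ∑ i, c i / c i0 * ((A j (a i) : V) : ℂ) = (∑ i, c i * ((A j (a i) : V) : ℂ)) / c i0 := by
          rw [Finset.sum_div]
          exact Finset.sum_congr rfl fun i _ => by ring
        rw [h8, h7, zero_div]
      have h9 := congrArg (residue V) h5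
      rw [map_sum, map_zero] at h9
      rw [Finset.sum_apply]
      simp only [map_mul] at h9
      exact h9
  rw [h1, Matrix.rank_eq_finrank_span_cols, ← finrank_span_eq_card h2]
  refine Submodule.finrank_mono (Submodule.span_mono ?_)
  rintro _ ⟨i, rfl⟩
  exact ⟨a i, rfl⟩

/-! ### ranks -/

variable {K : Type*} [Field K] {W : Type*} [AddCommGroup W] [Module K W] [FiniteDimensional K W]

/-- Coprime factors of an annihilating polynomial. -/
theorem finrank_range_add (f : Module.End K W) {p q : K[X]} (hpq : IsCoprime p q)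
    (h0 : aeval f (p * q) = 0) :
    finrank K (LinearMap.range (aeval f p)) + finrank K (LinearMap.range (aeval f q)) = finrank K W := by
  have h1 := Polynomial.sup_ker_aeval_eq_ker_aeval_mul_of_coprime f hpq
  have h2 := Polynomial.disjoint_ker_aeval_of_isCoprime f hpq
  rw [h0, LinearMap.ker_zero] at h1
  have h3 := Submodule.finrank_sup_add_finrank_inf_eq (LinearMap.ker (aeval f p)) (LinearMap.ker (aeval f q))
  rw [h1, h2.eq_bot, finrank_top, finrank_bot] at h3
  have h4 := LinearMap.finrank_range_add_finrank_ker (aeval f p)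
  have h5 := LinearMap.finrank_range_add_finrank_ker (aeval f q)
  omega

omit [FiniteDimensional K W] in
theorem isCoprime_geom {m : ℕ} (hm : (m : K) ≠ 0) :
    IsCoprime (X - 1 : K[X]) (∑ i ∈ Finset.range m, (X : K[X]) ^ i) := by
  have h1 : (X - 1 : K[X]) = X - C 1 := by rw [map_one]
  rw [h1, (Polynomial.irreducible_X_sub_C (1 : K)).coprime_iff_not_dvd, dvd_iff_isRoot, IsRoot.def,
    eval_finsetSum]
  simpa only [_root_.Polynomial.eval_pow, _root_.Polynomial.eval_X, _root_.one_pow, _root_.Finset.sum_const, _root_.Finset.card_range, _root_.nsmul_eq_mul, _root_.mul_one, _root_.ne_eq] using hm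

/-- The rank of `f - 1` for `f` of finite order prime to the characteristic. -/
theorem finrank_sub_one (f : Module.End K W) {m : ℕ} (hm : (m : K) ≠ 0) (hf : f ^ m = 1) :
    finrank K (LinearMap.range (f - 1)) +
      finrank K (LinearMap.range (aeval f (∑ i ∈ Finset.range m, (X : K[X]) ^ i))) = finrank K W := by
  have h1 := finrank_range_add f (isCoprime_geom hm) (by
    rw [mul_comm, geom_sum_mul, map_sub, map_pow, aeval_X, map_one, hf, sub_self])
  rwa [map_sub, aeval_X, map_one] at h1

theorem finrank_ker_mul (f : Module.End K W) {p q : K[X]} (hpq : IsCoprime p q) :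
    finrank K (LinearMap.ker (aeval f (p * q))) =
      finrank K (LinearMap.ker (aeval f p)) + finrank K (LinearMap.ker (aeval f q)) := by
  have h1 := Polynomial.sup_ker_aeval_eq_ker_aeval_mul_of_coprime f hpq
  have h2 := Polynomial.disjoint_ker_aeval_of_isCoprime f hpq
  have h3 := Submodule.finrank_sup_add_finrank_inf_eq (LinearMap.ker (aeval f p)) (LinearMap.ker (aeval f q))
  rw [h1, h2.eq_bot, finrank_bot] at h3
  omega

theorem finrank_ker_prod (f : Module.End K W) (R : Finset K) :
    finrank K (LinearMap.ker (aeval f (∏ c ∈ R, (X - C c)))) = ∑ c ∈ R, finrank K (f.eigenspace c) := by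
  classical
  induction R using Finset.induction_on with
  | empty =>
    have h0 : LinearMap.ker (aeval f (1 : K[X])) = ⊥ := by
      rw [map_one, Module.End.one_eq_id, LinearMap.ker_id]
    rw [Finset.prod_empty, Finset.sum_empty, h0, finrank_bot]
  | insert c R hc ih =>
    rw [Finset.prod_insert hc, finrank_ker_mul, ih, Finset.sum_insert hc]
    · have h0 : LinearMap.ker (aeval f (X - C c)) = f.eigenspace c := by
        rw [Module.End.eigenspace_def, map_sub, aeval_X, aeval_C, Algebra.algebraMap_eq_smul_one]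
      rw [h0]
    · refine IsCoprime.prod_right fun d hd => ?_
      have hne : c ≠ d := fun h => hc (h ▸ hd)
      exact isCoprime_X_sub_C_of_isUnit_sub (sub_ne_zero.2 hne).isUnit

omit [FiniteDimensional K W] in
theorem isSemisimple_of_pow (f : Module.End K W) {m : ℕ} (hm : (m : K) ≠ 0) (hf : f ^ m = 1) :
    f.IsSemisimple :=
  Module.End.isSemisimple_of_squarefree_aeval_eq_zero (p := X ^ m - 1)
    (X_pow_sub_one_separable_iff.2 hm).squarefree (by rw [map_sub, map_pow, aeval_X, map_one, hf, sub_self])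

theorem finrank_eigenspace (f : Module.End K W) {m : ℕ} (hm : (m : K) ≠ 0) (hf : f ^ m = 1) (c : K) :
    finrank K (f.eigenspace c) = f.charpoly.rootMultiplicity c := by
  rw [← (isSemisimple_of_pow f hm hf).isFinitelySemisimple.maxGenEigenspace_eq_eigenspace,
    LinearMap.finrank_maxGenEigenspace_eq]

theorem roots_charpoly_aeval [IsAlgClosed K] (f : Module.End K W) (g : K[X]) :
    (aeval f g).charpoly.roots = f.charpoly.roots.map fun r => g.eval r := by
  classical
  have h1 : (aeval f g).charpoly = ((f.charpoly.roots.map fun r => g.eval r).map fun a => X - C a).prod := by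
    have : Infinite K := IsAlgClosed.instInfinite
    refine Polynomial.funext fun t => ?_
    rw [LinearMap.eval_charpoly, eval_multiset_prod, Multiset.map_map, Multiset.map_map]
    have h2 : algebraMap K (Module.End K W) t - aeval f g = aeval f (C t - g) := by
      rw [map_sub, aeval_C]
    rw [h2, det_aeval]
    congr 1
    refine Multiset.map_congr rfl fun r _ => ?_
    simp
  rw [h1, roots_multiset_prod_X_sub_C]

open Classical in
/-- The nullity of a product of linear factors for an operator of finite order. -/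
theorem card_le_finrank_ker [IsAlgClosed K] (f : Module.End K W) {m : ℕ} (hm : (m : K) ≠ 0) (hf : f ^ m = 1)
    (R : Finset K) :
    (f.charpoly.roots.filter fun r => r ∈ R).card = finrank K (LinearMap.ker (aeval f (∏ c ∈ R, (X - C c)))) := by
  rw [finrank_ker_prod]
  have h1 : ∀ c ∈ R, finrank K (f.eigenspace c) = f.charpoly.roots.count c := fun c _ => by
    rw [finrank_eigenspace f hm hf, count_roots]
  rw [Finset.sum_congr rfl h1]
  generalize f.charpoly.roots = s
  induction s using Multiset.induction_on with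
  | empty => simp
  | cons a s ih =>
    simp only [Multiset.count_cons, Finset.sum_add_distrib, Multiset.filter_cons, Multiset.card_add, ih]
    by_cases ha : a ∈ R
    · simp only [ha, add_comm, ↓ _root_.reduceIte, _root_.Multiset.card_singleton, _root_.Finset.sum_ite_eq', _root_.Nat.add_left_cancel_iff]
    · simp only [ha, if_false, Multiset.card_zero, zero_add]
      have : ∑ x ∈ R, (if x = a then 1 else 0) = 0 := by
        refine Finset.sum_eq_zero fun x hx => if_neg ?_
        rintro rfl
        exact ha hx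
      rw [this, add_zero]

/-! ### from characteristic 0 to the residue field -/

/-- A complex representation has a reduction modulo the maximal ideal of `V` for which the ranks of the
polynomials in an element do not increase. -/
theorem exists_residue_rep {G : Type*} [Group G] [Finite G] (V : ValuationSubring ℂ)
    {U : Type*} [AddCommGroup U] [Module ℂ U] [FiniteDimensional ℂ U] (ρ : Representation ℂ G U) :
    ∃ τ : G →* Matrix (Fin (finrank ℂ U)) (Fin (finrank ℂ U)) (ResidueField V), ∀ (y : G) (P : V[X]),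
      (aeval (τ y) (P.map (residue V))).rank ≤
        finrank ℂ (LinearMap.range (aeval (ρ y) (P.map (algebraMap V ℂ)))) := by
  classical
  obtain ⟨T, b, hb⟩ := Reduce.exists_integral_basis V ρ
  let e : T ≃ Fin (finrank ℂ U) := Fintype.equivOfCardEq (by rw [Fintype.card_fin, Module.finrank_eq_card_basis b])
  let A : G → Matrix T T V := fun g => Matrix.of fun i j => ⟨b.repr (ρ g (b j)) i, hb g i j⟩
  have hA : ∀ g, (A g).map (algebraMap V ℂ) = LinearMap.toMatrix b b (ρ g) := by
    intro g
    ext i j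
    rw [LinearMap.toMatrix_apply]
    rfl
  have hinj : Function.Injective (fun M : Matrix T T V => M.map (algebraMap V ℂ)) :=
    Matrix.map_injective Subtype.val_injective
  have hA1 : A 1 = 1 := by
    apply hinj
    show (A 1).map (algebraMap V ℂ) = (1 : Matrix T T V).map (algebraMap V ℂ)
    rw [hA, map_one, Matrix.map_one _ (map_zero _) (map_one _)]
    exact LinearMap.toMatrix_id b
  have hAm : ∀ g h, A (g * h) = A g * A h := by
    intro g h
    apply hinj
    show (A (g * h)).map (algebraMap V ℂ) = (A g * A h).map (algebraMap V ℂ)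
    rw [Matrix.map_mul, hA, hA, hA, map_mul]
    exact LinearMap.toMatrix_mul b (ρ g) (ρ h)
  let τ₀ : G →* Matrix T T (ResidueField V) :=
    { toFun := fun g => (A g).map (residue V)
      map_one' := by rw [hA1, Matrix.map_one _ (map_zero _) (map_one _)]
      map_mul' := fun g h => by rw [hAm, Matrix.map_mul] }
  let E : Matrix T T (ResidueField V) ≃ₐ[ResidueField V]
      Matrix (Fin (finrank ℂ U)) (Fin (finrank ℂ U)) (ResidueField V) := Matrix.reindexAlgEquiv _ _ e
  refine ⟨E.toMulEquiv.toMonoidHom.comp τ₀, fun y P => ?_⟩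
  have h1 : aeval ((E.toMulEquiv.toMonoidHom.comp τ₀) y) (P.map (residue V)) =
      E (aeval ((A y).map (residue V)) (P.map (residue V))) :=
    aeval_algHom_apply E.toAlgHom ((A y).map (residue V)) (P.map (residue V))
  rw [h1]
  have h2 : (E (aeval ((A y).map (residue V)) (P.map (residue V)))).rank =
      (aeval ((A y).map (residue V)) (P.map (residue V))).rank := Matrix.rank_reindex e e _
  rw [h2]
  have h3 : aeval ((A y).map (residue V)) (P.map (residue V)) = (aeval (A y) P).map (residue V) := by
    have := Polynomial.map_aeval_eq_aeval_map (φ := residue V) (ψ := (by exact (residue V).mapMatrix)) (by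
      ext c i j
      simp [Matrix.algebraMap_matrix_apply]
      split_ifs <;> simp) P (A y)
    exact this.symm
  have h4 : (aeval (A y) P).map (algebraMap V ℂ) = aeval ((A y).map (algebraMap V ℂ)) (P.map (algebraMap V ℂ)) := by
    exact Polynomial.map_aeval_eq_aeval_map (φ := algebraMap V ℂ) (ψ := (by exact (algebraMap V ℂ).mapMatrix)) (by
      ext c i j
      simp only [Matrix.algebraMap_matrix_apply, _root_.RingHom.coe_comp, _root_.Function.comp_apply, _root_.ValuationSubring.algebraMap_apply, _root_.Algebra.algebraMap_self, _root_.RingHom.id_apply, _root_.RingHom.mapMatrix_apply, _root_.Matrix.map_apply]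
      split_ifs <;> simp) P (A y)
  rw [h3]
  refine (rank_residue_le _).trans (le_of_eq ?_)
  rw [h4, hA]
  have h5 : aeval (LinearMap.toMatrix b b (ρ y)) (P.map (algebraMap V ℂ)) =
      LinearMap.toMatrix b b (aeval (ρ y) (P.map (algebraMap V ℂ))) :=
    aeval_algHom_apply (LinearMap.toMatrixAlgEquiv b).toAlgHom (ρ y) (P.map (algebraMap V ℂ))
  rw [h5, Matrix.rank_eq_finrank_range_toLin _ b b, Matrix.toLin_toMatrix]

theorem rank_aeval_eq {n : ℕ} (A : Matrix (Fin n) (Fin n) K) (P : K[X]) :
    (aeval A P).rank = finrank K (LinearMap.range (aeval (Matrix.toLin' A) P)) := by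
  have h5 : aeval (Matrix.toLin' A) P = Matrix.toLin' (aeval A P) :=
    aeval_algHom_apply (Matrix.toLinAlgEquiv' : Matrix (Fin n) (Fin n) K ≃ₐ[K] _).toAlgHom A P
  rw [h5, Matrix.rank_eq_finrank_range_toLin _ (Pi.basisFun K _) (Pi.basisFun K _)]
  rfl

theorem rank_sub_one {n : ℕ} (A : Matrix (Fin n) (Fin n) K) {m : ℕ} (hm : (m : K) ≠ 0) (hA : A ^ m = 1) :
    (A - 1).rank + (aeval A (∑ i ∈ Finset.range m, (X : K[X]) ^ i)).rank = n := by
  have h1 := finrank_sub_one (Matrix.toLin' A) hm (by
    rw [← Matrix.toLin'_pow, hA, Matrix.toLin'_one]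
    rfl)
  have h2 := rank_aeval_eq A (X - 1)
  rw [map_sub, map_sub, aeval_X, map_one, aeval_X, map_one] at h2
  rw [rank_aeval_eq, h2, h1, finrank_fin_fun]

/-! ### from characteristic `p` to characteristic 0 -/

open scoped TensorProduct

/-- extension of scalars of a representation -/
noncomputable def ext {F : Type*} [Field F] {G : Type*} [Group G] {W : Type*} [AddCommGroup W] [Module F W]
    (k : Type*) [Field k] [Algebra F k] (ρ : Representation F G W) : Representation k G (k ⊗[F] W) where
  toFun g := (ρ g).baseChange k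
  map_one' := by
    rw [map_one]
    exact LinearMap.baseChange_id
  map_mul' a b := by
    rw [map_mul]
    exact LinearMap.baseChange_comp _ _

theorem isEig_character {G : Type*} [Group G] {U : Type*} [AddCommGroup U] [Module ℂ U] [FiniteDimensional ℂ U]
    (ρ : Representation ℂ G U) (g : G) : IsEig ρ.character g (LinearMap.charpoly (ρ g)).roots := by
  refine ⟨fun z hz => root_pow ρ (pow_orderOf_eq_one g) hz, fun i => ?_⟩
  rw [← roots_charpoly_pow, ← map_pow]
  exact Module.End.trace_eq_sum_roots_charpoly_of_splits (IsAlgClosed.splits _)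

/-- **The lift to characteristic 0** of a representation in characteristic `p` of a group of order prime
to `p`. -/
theorem exists_lift_rep {p : ℕ} [Fact p.Prime] {F : Type*} [Field F] [Finite F] [CharP F p]
    {W : Type*} [AddCommGroup W] [Module F W] [FiniteDimensional F W]
    {G : Type u} [Group G] [Finite G] (hG : ¬ p ∣ Nat.card G) (σ : Representation F G W) :
    ∃ (n : ℕ) (ρ : Representation ℂ G (Fin n → ℂ)), n = finrank F W ∧
      (∀ x : G, finrank ℂ (Module.End.eigenspace (ρ x) 1) = finrank F (Module.End.eigenspace (σ x) 1)) ∧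
      ∀ (y : G) (g : F[X]), g ≠ 0 → ∃ R : Finset ℂ, R.card ≤ g.natDegree ∧ (∀ c ∈ R, c ^ orderOf y = 1) ∧
        finrank F (LinearMap.ker (aeval (σ y) g)) ≤
          finrank ℂ (LinearMap.ker (aeval (ρ y) (∏ c ∈ R, (X - C c)))) := by
  classical
  have hp : p.Prime := Fact.out
  obtain ⟨M, hM⟩ := Cfsg.Agent.Blocks.ExistsModular.exists_isPModular hp
  obtain ⟨V, hV⟩ := exists_above hM
  have hchar : CharP (ResidueField V) p := hV.charP hM
  let _ : Algebra (ZMod p) (ResidueField V) := ZMod.algebra _ p
  let _ : Algebra (ZMod p) F := ZMod.algebra _ p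
  have : Algebra.IsAlgebraic (ZMod p) F := inferInstance
  let φ : F →ₐ[ZMod p] ResidueField V := IsAlgClosed.lift
  let _ : Algebra F (ResidueField V) := φ.toRingHom.toAlgebra
  set σ' := ext (ResidueField V) σ with hσ'
  have hinj : Function.Injective (algebraMap F (ResidueField V)) := (algebraMap F (ResidueField V)).injective
  have hreg : ∀ g : G, ¬ p ∣ orderOf g := fun g h => hG (h.trans (orderOf_dvd_natCard g))
  have hcp : ∀ g, LinearMap.charpoly (σ' g) = (LinearMap.charpoly (σ g)).map (algebraMap F (ResidueField V)) :=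
    fun g => LinearMap.charpoly_baseChange (σ g) (ResidueField V)
  obtain ⟨n, ρ, hρ⟩ := Cfsg.Agent.H699.IBrLift.isCharacter_bc hM hV hG σ'
  have heig : ∀ g, (LinearMap.charpoly (ρ g)).roots = (LinearMap.charpoly (σ' g)).roots.map (lift p) := fun g =>
    isEig_unique (isEig_character ρ g) (by rw [hρ]; exact isEig_bc σ' (hreg g))
  have hn : n = finrank F W := by
    have h1 := congrArg Multiset.card (heig 1)
    rw [Multiset.card_map, IsAlgClosed.card_roots_eq_natDegree, IsAlgClosed.card_roots_eq_natDegree,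
      LinearMap.charpoly_natDegree, LinearMap.charpoly_natDegree, finrank_fin_fun,
      Module.finrank_baseChange] at h1
    exact h1
  have hF : ∀ x : G, ((orderOf x : ℕ) : F) ≠ 0 := fun x h => hreg x ((CharP.cast_eq_zero_iff F p _).1 h)
  have hC : ∀ x : G, ((orderOf x : ℕ) : ℂ) ≠ 0 := fun x => Nat.cast_ne_zero.2 (orderOf_pos x).ne'
  have hσp : ∀ x : G, σ x ^ orderOf x = 1 := fun x => by rw [← map_pow, pow_orderOf_eq_one, map_one]
  have hρp : ∀ x : G, ρ x ^ orderOf x = 1 := fun x => by rw [← map_pow, pow_orderOf_eq_one, map_one]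
  refine ⟨n, ρ, hn, fun x => ?_, fun y g hg => ?_⟩
  · have h2 : (LinearMap.charpoly (σ x)).rootMultiplicity 1 = (LinearMap.charpoly (σ' x)).roots.count 1 := by
      rw [count_roots, hcp, ← map_one (algebraMap F (ResidueField V)), ← Polynomial.eq_rootMultiplicity_map hinj 1]
    rw [finrank_eigenspace (ρ x) (hC x) (hρp x), finrank_eigenspace (σ x) (hF x) (hσp x), h2,
      ← count_roots, heig, Multiset.count_map, Multiset.count, Multiset.countP_eq_card_filter]
    congr 1
    refine Multiset.filter_congr fun r hr => ⟨fun h => ?_, fun h => ?_⟩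
    · exact (lift_eq_one (root_isRU σ' (hreg x) hr) h.symm).symm
    · rw [← h, lift_one]
  · set S := (LinearMap.charpoly (σ' y)).roots.filter
      (fun r => (g.map (algebraMap F (ResidueField V))).eval r = 0) with hS
    refine ⟨(S.map (lift p)).toFinset, ?_, ?_, ?_⟩
    · have h1 : (S.map (lift p)).toFinset ⊆
          (g.map (algebraMap F (ResidueField V))).roots.toFinset.image (lift p) := by
        intro c hc
        rw [Multiset.mem_toFinset, Multiset.mem_map] at hc
        obtain ⟨r, hr, rfl⟩ := hc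
        rw [hS, Multiset.mem_filter] at hr
        refine Finset.mem_image_of_mem _ ?_
        rw [Multiset.mem_toFinset, mem_roots (by rwa [Ne, Polynomial.map_eq_zero])]
        exact hr.2
      refine (Finset.card_le_card h1).trans (Finset.card_image_le.trans
        ((Multiset.toFinset_card_le _).trans ((card_roots' _).trans ?_)))
      rw [natDegree_map]
    · intro c hc
      rw [Multiset.mem_toFinset, Multiset.mem_map] at hc
      obtain ⟨r, hr, rfl⟩ := hc
      rw [hS, Multiset.mem_filter] at hr
      have h2 : lift p r ∈ (LinearMap.charpoly (ρ y)).roots := by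
        rw [heig]
        exact Multiset.mem_map_of_mem _ hr.1
      exact root_pow ρ (pow_orderOf_eq_one y) h2
    · rw [← card_le_finrank_ker (ρ y) (hC y) (hρp y), heig, Multiset.filter_map, Multiset.card_map]
      have h1 := LinearMap.finrank_eigenspace_le (aeval (σ y) g) 0
      rw [Module.End.eigenspace_zero] at h1
      have h4 : ∀ f : F[X], aeval (σ' y) (f.map (algebraMap F (ResidueField V))) =
          (aeval (σ y) f).baseChange (ResidueField V) := by
        intro f
        rw [aeval_map_algebraMap]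
        exact (aeval_algHom_apply (Module.End.baseChangeHom F (ResidueField V) W) (σ y) f)
      have h2 : (aeval (σ y) g).charpoly.rootMultiplicity 0 =
          (LinearMap.charpoly (aeval (σ' y) (g.map (algebraMap F (ResidueField V))))).roots.count 0 := by
        rw [count_roots, h4, LinearMap.charpoly_baseChange,
          ← map_zero (algebraMap F (ResidueField V)), ← Polynomial.eq_rootMultiplicity_map hinj 0]
      rw [h2, roots_charpoly_aeval, Multiset.count_map] at h1
      refine h1.trans (Multiset.card_le_card (Multiset.le_filter.2 ⟨Multiset.filter_le _ _, fun r hr => ?_⟩))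
      rw [Multiset.mem_filter] at hr
      show lift p r ∈ (S.map (lift p)).toFinset
      rw [Multiset.mem_toFinset]
      refine Multiset.mem_map_of_mem _ ?_
      rw [hS, Multiset.mem_filter]
      exact ⟨hr.1, hr.2.symm⟩

/-- **Reduction modulo 2.** -/
theorem exists_char_two {p : ℕ} [Fact p.Prime] {F : Type*} [Field F] [Finite F] [CharP F p]
    {W : Type*} [AddCommGroup W] [Module F W] [FiniteDimensional F W]
    {G : Type u} [Group G] [Finite G] (hG : ¬ p ∣ Nat.card G) (σ : Representation F G W) :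
    ∃ (k : Type) (_ : Field k) (_ : CharP k 2) (n : ℕ) (τ : G →* Matrix (Fin n) (Fin n) k),
      (∀ x : G, Odd (orderOf x) → finrank F (LinearMap.range (σ x - 1)) ≤ (τ x - 1).rank) ∧
      ∀ (y : G) (g : F[X]), g ≠ 0 → (∃ j : ℕ, y ^ 2 ^ j = 1) →
        ((τ y - 1) ^ g.natDegree).rank ≤ finrank F (LinearMap.range (aeval (σ y) g)) := by
  classical
  obtain ⟨n, ρ, hn, h1, h2⟩ := exists_lift_rep hG σ
  obtain ⟨M, hM⟩ := Cfsg.Agent.Blocks.ExistsModular.exists_isPModular Nat.prime_two
  obtain ⟨V, hV⟩ := exists_above hM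
  have hchar : CharP (ResidueField V) 2 := hV.charP hM
  obtain ⟨τ, hτ⟩ := exists_residue_rep V ρ
  have hn' : finrank ℂ (Fin n → ℂ) = n := finrank_fin_fun ℂ
  refine ⟨ResidueField V, inferInstance, hchar, finrank ℂ (Fin n → ℂ), τ, fun x hx => ?_, fun y g hg hy => ?_⟩
  · have h3 := rank_sub_one (τ x) (m := orderOf x) (K := ResidueField V) (by
      intro h
      rw [CharP.cast_eq_zero_iff (ResidueField V) 2] at h
      exact (Nat.not_even_iff_odd.2 hx) (even_iff_two_dvd.2 h)) (by rw [← map_pow, pow_orderOf_eq_one, map_one])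
    have h4 := finrank_sub_one (K := ℂ) (ρ x) (m := orderOf x) (Nat.cast_ne_zero.2 (orderOf_pos x).ne')
      (by rw [← map_pow, pow_orderOf_eq_one, map_one])
    have h5 := hτ x (∑ i ∈ Finset.range (orderOf x), (X : V[X]) ^ i)
    have e1 : (∑ i ∈ Finset.range (orderOf x), (X : V[X]) ^ i).map (residue V) =
        ∑ i ∈ Finset.range (orderOf x), (X : (ResidueField V)[X]) ^ i := by
      rw [Polynomial.map_sum]
      exact Finset.sum_congr rfl fun i _ => by rw [Polynomial.map_pow, Polynomial.map_X]
    have e2 : (∑ i ∈ Finset.range (orderOf x), (X : V[X]) ^ i).map (algebraMap V ℂ) =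
        ∑ i ∈ Finset.range (orderOf x), (X : ℂ[X]) ^ i := by
      rw [Polynomial.map_sum]
      exact Finset.sum_congr rfl fun i _ => by rw [Polynomial.map_pow, Polynomial.map_X]
    rw [e1, e2] at h5
    have h6 := h1 x
    have h7 := LinearMap.finrank_range_add_finrank_ker (ρ x - 1)
    have h8 := LinearMap.finrank_range_add_finrank_ker (σ x - 1)
    have h9 : LinearMap.ker (ρ x - 1) = Module.End.eigenspace (ρ x) 1 := by
      rw [Module.End.eigenspace_def, one_smul]
    have h10 : LinearMap.ker (σ x - 1) = Module.End.eigenspace (σ x) 1 := by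
      rw [Module.End.eigenspace_def, one_smul]
    rw [h9, h6] at h7
    rw [h10] at h8
    omega
  · obtain ⟨R, hR1, hR2, hR3⟩ := h2 y g hg
    obtain ⟨j, hj⟩ := hy
    have hpow : ∀ c ∈ R, c ^ 2 ^ j = 1 := by
      intro c hc
      obtain ⟨a, ha⟩ := orderOf_dvd_of_pow_eq_one hj
      rw [ha, pow_mul, hR2 c hc, one_pow]
    have hRV : ∀ c ∈ R, c ∈ V := by
      intro c hc
      have h4 := hpow c hc
      rw [← V.valuation_le_one_iff]
      have h5 : V.valuation c ^ 2 ^ j = 1 := by rw [← map_pow, h4, map_one]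
      exact (pow_le_one_iff (pow_ne_zero _ two_ne_zero)).1 h5.le
    have hres : ∀ c : R, residue V ⟨c.1, hRV c.1 c.2⟩ = 1 := by
      intro c
      have h4 : (residue V ⟨c.1, hRV c.1 c.2⟩) ^ 2 ^ j = 1 := by
        rw [← map_pow]
        have : (⟨c.1, hRV c.1 c.2⟩ : V) ^ 2 ^ j = 1 := Subtype.ext (by simpa only [_root_.SubmonoidClass.mk_pow, _root_.OneMemClass.coe_one] using hpow c.1 c.2)
        rw [this, map_one]
      have : ExpChar (ResidueField V) 2 := ExpChar.prime Nat.prime_two
      exact (ExpChar.pow_prime_pow_mul_eq_one_iff 2 j 1 _).1 (by simpa only [_root_.mul_one] using h4) |> fun h => by simpa using h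
    set P : V[X] := ∏ c : R, (X - C ⟨c.1, hRV c.1 c.2⟩) with hP
    have hP1 : P.map (residue V) = (X - 1) ^ R.card := by
      rw [hP, Polynomial.map_prod]
      simp only [Polynomial.map_sub, Polynomial.map_X, Polynomial.map_C, hres, map_one]
      rw [Finset.prod_const, Finset.card_univ, Fintype.card_coe]
    have hP2 : P.map (algebraMap V ℂ) = ∏ c ∈ R, (X - C c) := by
      rw [hP, Polynomial.map_prod, ← Finset.prod_coe_sort R (fun c => X - C c)]
      refine Finset.prod_congr rfl fun c _ => ?_
      rw [Polynomial.map_sub, Polynomial.map_X, Polynomial.map_C]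
      rfl
    have h3 := hτ y P
    rw [hP1, hP2, map_pow, map_sub, aeval_X, map_one] at h3
    have h4 : ((τ y - 1) ^ g.natDegree).rank ≤ ((τ y - 1) ^ R.card).rank := by
      rw [← Nat.add_sub_cancel' hR1, pow_add]
      exact Matrix.rank_mul_le_left _ _
    have h5 := LinearMap.finrank_range_add_finrank_ker (aeval (ρ y) (∏ c ∈ R, (X - C c)))
    have h6 := LinearMap.finrank_range_add_finrank_ker (aeval (σ y) g)
    omega

end Cfsg.Agent.H408.Hall.RedTwo
end

-- part: H408/Hall/MTwo
section
/-!
# 2-elements with few eigenvalues in linear groups of order prime to the characteristic (helper408)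

* `mem_pCore_of_aeval` (A): a 2-element `y` annihilated by a polynomial of degree at most `2 ^ j` has
  `y ^ 2 ^ j` in the 2-core;
* `mem_pCore_of_rank` (B): if the polynomial only has rank at most `r` at `y` and `t = y ^ 2 ^ j` is an involution
  inverting no nontrivial element `x` of odd order with `rank (x - 1) ≤ 2 r`, then `t` is in the 2-core.
-/

set_option autoImplicit false

universe u

namespace Cfsg.Agent.H408.Hall.MTwo

open Cfsg Module Polynomial

theorem rank_add_le {K : Type*} [Field K] {n : ℕ} (A B : Matrix (Fin n) (Fin n) K) :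
    (A + B).rank ≤ A.rank + B.rank := by
  unfold Matrix.rank
  refine le_trans (Submodule.finrank_mono (t := LinearMap.range A.mulVecLin ⊔ LinearMap.range B.mulVecLin) ?_)
    (Submodule.finrank_add_le_finrank_add_finrank _ _)
  rintro _ ⟨v, rfl⟩
  rw [Matrix.mulVecLin_add]
  exact Submodule.add_mem_sup ⟨v, rfl⟩ ⟨v, rfl⟩

theorem eq_zero_of_rank {K : Type*} [Field K] {n : ℕ} {A : Matrix (Fin n) (Fin n) K} (h : A.rank = 0) : A = 0 := by
  unfold Matrix.rank at h
  rw [Submodule.finrank_eq_zero, LinearMap.range_eq_bot] at h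
  rw [← Matrix.toLin'.map_eq_zero_iff]
  exact h

section

variable {G : Type u} [Group G] [Finite G]

/-- A normal subgroup without nontrivial elements of odd order lies in the 2-core. -/
theorem le_pCore {N : Subgroup G} [N.Normal] (h : ∀ x ∈ N, Odd (orderOf x) → x = 1) : N ≤ Cfsg.pCore 2 G := by
  refine le_sSup ⟨inferInstance, ?_⟩
  intro x
  obtain ⟨k, m, hm, ho⟩ := Nat.exists_eq_two_pow_mul_odd (orderOf_pos (x : G)).ne'
  refine ⟨k, ?_⟩
  apply Subtype.ext
  rw [Subgroup.coe_pow, Subgroup.coe_one]
  refine h _ (pow_mem x.2 _) ?_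
  rw [orderOf_pow, ho, Nat.gcd_eq_right (dvd_mul_right _ _), Nat.mul_div_cancel_left _ (pow_pos two_pos k)]
  exact hm

end

section

variable {p : ℕ} [Fact p.Prime] {F : Type*} [Field F] [Finite F] [CharP F p]
    {W : Type*} [AddCommGroup W] [Module F W] [FiniteDimensional F W]
    {G : Type u} [Group G] [Finite G]

theorem pow_sub_one {k : Type*} [Field k] [CharP k 2] {n : ℕ} (A : Matrix (Fin n) (Fin n) k) (j : ℕ) :
    (A - 1) ^ 2 ^ j = A ^ 2 ^ j - 1 := by
  rcases Nat.eq_zero_or_pos n with rfl | hn
  · exact Subsingleton.elim _ _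
  · have : Nonempty (Fin n) := ⟨⟨0, hn⟩⟩
    have : CharP (Matrix (Fin n) (Fin n) k) 2 := inferInstance
    have : ExpChar (Matrix (Fin n) (Fin n) k) 2 := ExpChar.prime Nat.prime_two
    rw [sub_pow_expChar_pow_of_commute _ _ (Commute.one_right A), one_pow]

omit [Finite F] [Fact p.Prime] [CharP F p] in
theorem ker_le {σ : Representation F G W} (hσ : ∀ x, σ x = 1 → x = 1) {k : Type} [Field k] {n : ℕ}
    {τ : G →* Matrix (Fin n) (Fin n) k}
    (h1 : ∀ x : G, Odd (orderOf x) → finrank F (LinearMap.range (σ x - 1)) ≤ (τ x - 1).rank) {x : G} (hx : τ x = 1) :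
    x ∈ Cfsg.pCore 2 G := by
  refine le_pCore (N := τ.ker) (fun y hy ho => hσ y ?_) hx
  have h2 := h1 y ho
  rw [MonoidHom.mem_ker] at hy
  rw [hy, sub_self, Matrix.rank_zero, Nat.le_zero, Submodule.finrank_eq_zero, LinearMap.range_eq_bot] at h2
  exact sub_eq_zero.1 h2

/-- **(A)** -/
theorem mem_pCore_of_aeval (hG : ¬ p ∣ Nat.card G) (σ : Representation F G W) (hσ : ∀ x, σ x = 1 → x = 1)
    {y : G} (hy : ∃ i : ℕ, y ^ 2 ^ i = 1) {g : F[X]} (hg0 : g ≠ 0) {j : ℕ} (hg : g.natDegree ≤ 2 ^ j)
    (h : aeval (σ y) g = 0) : y ^ 2 ^ j ∈ Cfsg.pCore 2 G := by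
  obtain ⟨k, hk, hk2, n, τ, h1, h2⟩ := RedTwo.exists_char_two hG σ
  refine ker_le hσ h1 ?_
  have h3 := h2 y g hg0 hy
  rw [h, LinearMap.range_zero, finrank_bot, Nat.le_zero] at h3
  replace h3 := eq_zero_of_rank h3
  rw [map_pow, ← sub_eq_zero, ← pow_sub_one, ← Nat.add_sub_cancel' hg, pow_add, h3, zero_mul]

/-- **(B)** -/
theorem mem_pCore_of_rank (hG : ¬ p ∣ Nat.card G) (σ : Representation F G W)
    {y : G} {g : F[X]} (hg0 : g ≠ 0) {j r : ℕ} (hg : g.natDegree ≤ 2 ^ j)
    (h : finrank F (LinearMap.range (aeval (σ y) g)) ≤ r) (ht : y ^ 2 ^ (j + 1) = 1)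
    (hinv : ∀ x : G, Odd (orderOf x) → y ^ 2 ^ j * x * (y ^ 2 ^ j)⁻¹ = x⁻¹ →
      finrank F (LinearMap.range (σ x - 1)) ≤ 2 * r → x = 1) :
    y ^ 2 ^ j ∈ Cfsg.pCore 2 G := by
  obtain ⟨k, hk, hk2, n, τ, h1, h2⟩ := RedTwo.exists_char_two hG σ
  have h3 := h2 y g hg0 ⟨_, ht⟩
  set t := y ^ 2 ^ j with ht0
  have htt : t * t = 1 := by rw [ht0, ← pow_add, ← two_mul, ← pow_succ', ht]
  have h4 : (τ t - 1).rank ≤ r := by
    refine le_trans ?_ (h3.trans h)
    rw [ht0, map_pow, ← pow_sub_one, ← Nat.add_sub_cancel' hg, pow_add]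
    exact Matrix.rank_mul_le_left _ _
  by_contra hcon
  have h5 : ¬ IsPGroup 2 (Subgroup.normalClosure {t} : Subgroup G) := by
    intro h6
    exact hcon ((le_sSup ⟨Subgroup.normalClosure_normal, h6⟩ : Subgroup.normalClosure {t} ≤ Cfsg.pCore 2 G)
      (Subgroup.subset_normalClosure (by simp)))
  obtain ⟨x, hx1, hxo, hxt⟩ := Cfsg.Agent.Involutions.BaerSuzuki.exists_odd_inverted t htt h5
  refine hx1 (hinv x hxo hxt ((h1 x hxo).trans ?_))
  -- a square root of `x`
  obtain ⟨m, hm⟩ := hxo
  set z := x ^ (m + 1) with hz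
  have hzz : z * z = x := by
    have h6 : x ^ (2 * m + 1) = 1 := by rw [← hm, pow_orderOf_eq_one]
    rw [hz, ← pow_add]
    have : m + 1 + (m + 1) = (2 * m + 1) + 1 := by ring
    rw [this, pow_succ, h6, one_mul]
  have hzt : t * z * t⁻¹ = z⁻¹ := by
    rw [hz, ← conj_pow, hxt, inv_pow]
  have h6 : z⁻¹ * t * z = t * x := by
    have : z⁻¹ * t = t * z := by rw [← hzt, inv_mul_cancel_right]
    rw [this, mul_assoc, hzz]
  have h7 : τ x - 1 = (τ t - 1) * τ (t * x) + (τ (t * x) - 1) := by
    rw [sub_mul, one_mul, sub_add_sub_cancel, ← map_mul, ← mul_assoc, htt, one_mul]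
  have h8 : τ (t * x) - 1 = τ z⁻¹ * (τ t - 1) * τ z := by
    rw [mul_sub, sub_mul, ← map_mul, ← map_mul, mul_one, ← map_mul, h6, inv_mul_cancel, map_one]
  rw [h7]
  refine (rank_add_le _ _).trans ?_
  rw [two_mul]
  refine add_le_add ((Matrix.rank_mul_le_left _ _).trans h4) ?_
  rw [h8]
  exact (Matrix.rank_mul_le_left _ _).trans ((Matrix.rank_mul_le_right _ _).trans h4)

end

end Cfsg.Agent.H408.Hall.MTwo
end
end

section
prune_inst 0x1c01000000000800000010000008000000

-- part: H575/Hall/Rep
section
set_option linter.all false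
open scoped Cfsg.Agent.FastGrp

/-!
# S2223, SPROW: the natural module of `GU n F = Sp_2n(F)` and its frame

* `rho` : the action of `GU n F` on `n ⊕ n → K`;
* `Ui i` : the `i`-th plane, `mv_t : mv rho (Rj i nu) = Ui i`, `finrank_Ui`;
* `rho_inl`, `rho_inr` : monomial elements.
-/

set_option autoImplicit false
set_option linter.unusedSectionVars false

namespace Cfsg.Agent.H575.Hall

open Quaternion Matrix Equiv
open Cfsg.Agent.H158.PronQ Cfsg.Agent.H158.PronMat Cfsg.Agent.H158.PronMono Cfsg.Agent.H158.PronSp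
open Cfsg.Agent.H158.PronM2 Cfsg.Agent.H158.PronFrame Cfsg.Agent.H158.PronAvg Cfsg.Agent.H408.Pron.Gen
open Cfsg.Agent.H125.Hall

universe u v w

variable {F : Type u} [Field F] {K : Type v} [Field K] [Algebra F K] {n : Type w} [Fintype n] [DecidableEq n]
variable {a b : F}

/-- the matrix over `K` -/
noncomputable def mat (K : Type v) [Field K] [Algebra F K] (a b : F) (g : Matrix n n ℍ[F]) :
    Matrix (n ⊕ n) (n ⊕ n) K := (Th a b g).map (algebraMap F K)

/-- **the natural module** -/
noncomputable def rho (K : Type v) [Field K] [Algebra F K] (hab : a * a + b * b = -1) :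
    GU n F →* ((n ⊕ n → K) →ₗ[K] (n ⊕ n → K)) where
  toFun g := Matrix.toLin' (mat K a b g.1)
  map_one' := by
    show Matrix.toLin' (mat K a b (1 : Matrix n n ℍ[F])) = 1
    rw [mat, Th_one, Matrix.map_one _ (map_zero _) (map_one _), Matrix.toLin'_one]
    rfl
  map_mul' g h := by
    show Matrix.toLin' (mat K a b (g.1 * h.1)) = _
    rw [mat, Th_mul hab, Matrix.map_mul, Matrix.toLin'_mul]
    rfl

theorem rho_apply (hab : a * a + b * b = -1) (g : GU n F) (v : n ⊕ n → K) :
    rho K hab g v = mat K a b g.1 *ᵥ v := by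
  show Matrix.toLin' (mat K a b g.1) v = _
  rw [Matrix.toLin'_apply]

theorem toM_zero (a b : F) : toM a b (0 : ℍ[F]) = 0 := by
  ext i j; (revert i j; simp only [toM, _root_.Fin.forall_fin_succ, _root_.Quaternion.re_zero, _root_.Quaternion.imJ_zero, _root_.MulZeroClass.zero_mul, _root_.add_zero, _root_.Quaternion.imK_zero, _root_.Quaternion.imI_zero, _root_.sub_self, _root_.neg_zero, _root_.Matrix.of_apply, _root_.Matrix.cons_val', _root_.Matrix.cons_val_fin_one, _root_.Matrix.zero_apply, Fin.isValue, _root_.Matrix.cons_val_zero, _root_.Matrix.cons_val_succ, _root_.forall_const, _root_.and_self, _root_.implies_true])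

theorem toM_one (a b : F) : toM a b (1 : ℍ[F]) = 1 := by
  ext i j; (revert i j; simp only [toM, _root_.Fin.forall_fin_succ, _root_.Quaternion.re_one, _root_.Quaternion.imJ_one, _root_.MulZeroClass.zero_mul, _root_.add_zero, _root_.Quaternion.imK_one, _root_.Quaternion.imI_one, _root_.sub_self, _root_.neg_zero, _root_.sub_zero, _root_.Matrix.of_apply, _root_.Matrix.cons_val', _root_.Matrix.cons_val_fin_one, Fin.isValue, _root_.Matrix.cons_val_zero, _root_.Matrix.cons_val_succ, _root_.IsEmpty.forall_iff, _root_.and_true, _root_.Matrix.one_apply_eq, Nat.reduceAdd, _root_.Fin.succ_zero_eq_one, _root_.ne_eq, _root_.zero_ne_one, _root_.not_false_eq_true, _root_.Matrix.one_apply_ne, _root_.and_self, _root_.Fin.succ_ne_zero, _root_.true_and])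

theorem toM_neg_one (a b : F) : toM a b (-1 : ℍ[F]) = -1 := by
  ext i j; (revert i j; simp only [toM, _root_.Fin.forall_fin_succ, _root_.Quaternion.re_neg, _root_.Quaternion.re_one, _root_.Quaternion.imJ_neg, _root_.Quaternion.imJ_one, _root_.neg_zero, _root_.MulZeroClass.zero_mul, _root_.add_zero, _root_.Quaternion.imK_neg, _root_.Quaternion.imK_one, _root_.Quaternion.imI_neg, _root_.Quaternion.imI_one, _root_.sub_self, _root_.sub_zero, _root_.Matrix.of_apply, _root_.Matrix.cons_val', _root_.Matrix.cons_val_fin_one, _root_.Matrix.neg_apply, Fin.isValue, _root_.Matrix.cons_val_zero, _root_.Matrix.cons_val_succ, _root_.IsEmpty.forall_iff, _root_.and_true, _root_.Matrix.one_apply_eq, Nat.reduceAdd, _root_.Fin.succ_zero_eq_one, _root_.ne_eq, _root_.zero_ne_one, _root_.not_false_eq_true, _root_.Matrix.one_apply_ne, _root_.and_self, _root_.Fin.succ_ne_zero, _root_.neg_inj, _root_.true_and])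

theorem rho_inl (hab : a * a + b * b = -1) {g : GU n F} {σ : Perm n} (hg : Mono g.1 σ) (v : n ⊕ n → K) (c : n) :
    rho K hab g v (Sum.inl (σ c)) = algebraMap F K (toM a b (g.1 (σ c) c) 0 0) * v (Sum.inl c) +
      algebraMap F K (toM a b (g.1 (σ c) c) 0 1) * v (Sum.inr c) := by
  rw [rho_apply, Matrix.mulVec, dotProduct, Fintype.sum_sum_type]
  congr 1
  · refine (Finset.sum_eq_single c (fun d _ hd => ?_) (fun h => absurd (Finset.mem_univ _) h)).trans ?_
    · have h0 : g.1 (σ c) d = 0 := hg _ _ (fun h => hd (σ.injective h).symm)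
      show algebraMap F K (toM a b (g.1 (σ c) d) 0 0) * _ = 0
      rw [h0, toM_zero]; simp
    · rfl
  · refine (Finset.sum_eq_single c (fun d _ hd => ?_) (fun h => absurd (Finset.mem_univ _) h)).trans ?_
    · have h0 : g.1 (σ c) d = 0 := hg _ _ (fun h => hd (σ.injective h).symm)
      show algebraMap F K (toM a b (g.1 (σ c) d) 0 1) * _ = 0
      rw [h0, toM_zero]; simp
    · rfl

theorem rho_inr (hab : a * a + b * b = -1) {g : GU n F} {σ : Perm n} (hg : Mono g.1 σ) (v : n ⊕ n → K) (c : n) :
    rho K hab g v (Sum.inr (σ c)) = algebraMap F K (toM a b (g.1 (σ c) c) 1 0) * v (Sum.inl c) +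
      algebraMap F K (toM a b (g.1 (σ c) c) 1 1) * v (Sum.inr c) := by
  rw [rho_apply, Matrix.mulVec, dotProduct, Fintype.sum_sum_type]
  congr 1
  · refine (Finset.sum_eq_single c (fun d _ hd => ?_) (fun h => absurd (Finset.mem_univ _) h)).trans ?_
    · have h0 : g.1 (σ c) d = 0 := hg _ _ (fun h => hd (σ.injective h).symm)
      show algebraMap F K (toM a b (g.1 (σ c) d) 1 0) * _ = 0
      rw [h0, toM_zero]; simp
    · rfl
  · refine (Finset.sum_eq_single c (fun d _ hd => ?_) (fun h => absurd (Finset.mem_univ _) h)).trans ?_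
    · have h0 : g.1 (σ c) d = 0 := hg _ _ (fun h => hd (σ.injective h).symm)
      show algebraMap F K (toM a b (g.1 (σ c) d) 1 1) * _ = 0
      rw [h0, toM_zero]; simp
    · rfl

/-- equality at the coordinate `c` -/
theorem rho_one_at (hab : a * a + b * b = -1) {g : GU n F} {σ : Perm n} (hg : Mono g.1 σ) (v : n ⊕ n → K) {c : n}
    (hc : g.1 (σ c) c = 1) : rho K hab g v (Sum.inl (σ c)) = v (Sum.inl c) ∧
      rho K hab g v (Sum.inr (σ c)) = v (Sum.inr c) := by
  rw [rho_inl hab hg, rho_inr hab hg, hc, toM_one]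
  simp

theorem rho_neg_at (hab : a * a + b * b = -1) {g : GU n F} {σ : Perm n} (hg : Mono g.1 σ) (v : n ⊕ n → K) {c : n}
    (hc : g.1 (σ c) c = -1) : rho K hab g v (Sum.inl (σ c)) = -v (Sum.inl c) ∧
      rho K hab g v (Sum.inr (σ c)) = -v (Sum.inr c) := by
  rw [rho_inl hab hg, rho_inr hab hg, hc, toM_neg_one]
  simp

/-- the `i`-th plane -/
def Ui (K : Type v) [Field K] (i : n) : Submodule K (n ⊕ n → K) where
  carrier := {v | ∀ c, c ≠ i → v (Sum.inl c) = 0 ∧ v (Sum.inr c) = 0}
  add_mem' := fun {x y} hx hy c hc => by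
    rw [Pi.add_apply, Pi.add_apply, (hx c hc).1, (hx c hc).2, (hy c hc).1, (hy c hc).2, add_zero]
    exact ⟨rfl, rfl⟩
  zero_mem' := fun c _ => ⟨rfl, rfl⟩
  smul_mem' := fun r x hx c hc => by
    rw [Pi.smul_apply, Pi.smul_apply, (hx c hc).1, (hx c hc).2, smul_zero]
    exact ⟨rfl, rfl⟩

theorem finrank_Ui (i : n) : Module.finrank K (Ui K i) = 2 := by
  let e : Ui K i ≃ₗ[K] K × K :=
    { toFun := fun v => (v.1 (Sum.inl i), v.1 (Sum.inr i))
      map_add' := fun _ _ => rfl
      map_smul' := fun _ _ => rfl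
      invFun := fun p => ⟨Sum.elim (Pi.single i p.1) (Pi.single i p.2), fun c hc => by
        rw [Sum.elim_inl, Sum.elim_inr, Pi.single_eq_of_ne hc, Pi.single_eq_of_ne hc]
        exact ⟨rfl, rfl⟩⟩
      left_inv := fun v => by
        apply Subtype.ext
        funext x
        rcases x with c | c
        · show (Pi.single i (v.1 (Sum.inl i)) : n → K) c = v.1 (Sum.inl c)
          by_cases h : c = i
          · subst h; rw [Pi.single_eq_same]
          · rw [Pi.single_eq_of_ne h, (v.2 c h).1]
        · show (Pi.single i (v.1 (Sum.inr i)) : n → K) c = v.1 (Sum.inr c)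
          by_cases h : c = i
          · subst h; rw [Pi.single_eq_same]
          · rw [Pi.single_eq_of_ne h, (v.2 c h).2]
      right_inv := fun p => by
        show ((Pi.single i p.1 : n → K) i, (Pi.single i p.2 : n → K) i) = p
        rw [Pi.single_eq_same, Pi.single_eq_same] }
  rw [e.finrank_eq, Module.finrank_prod, Module.finrank_self]

theorem Rj_entry (i : n) (h : U F) : (Rj i h).1 i i = h := by
  rw [Rj_apply, if_pos rfl, if_pos rfl]

theorem Rj_entry_ne {i c : n} (hc : c ≠ i) (h : U F) : (Rj i h).1 c c = 1 := by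
  rw [Rj_apply, if_pos rfl, if_neg hc]

theorem rho_Rj_ne (hab : a * a + b * b = -1) {i c : n} (hc : c ≠ i) (h : U F) (v : n ⊕ n → K) :
    rho K hab (Rj i h) v (Sum.inl c) = v (Sum.inl c) ∧ rho K hab (Rj i h) v (Sum.inr c) = v (Sum.inr c) :=
  rho_one_at hab (σ := 1) (Rj_mono i h) v (c := c) (Rj_entry_ne hc h)

theorem rho_t_self (hab : a * a + b * b = -1) (i : n) (v : n ⊕ n → K) :
    rho K hab (Rj i nu) v (Sum.inl i) = -v (Sum.inl i) ∧ rho K hab (Rj i nu) v (Sum.inr i) = -v (Sum.inr i) :=
  rho_neg_at hab (σ := 1) (Rj_mono i nu) v (c := i) (Rj_entry i nu)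

theorem rho_injective (hab : a * a + b * b = -1) (h2 : (2 : F) ≠ 0) :
    Function.Injective (rho K hab : GU n F → _) := by
  intro g h hgh
  have h1 : mat K a b g.1 = mat K a b h.1 := Matrix.toLin'.injective hgh
  apply Subtype.ext
  apply Th_injective hab h2
  exact Matrix.map_injective (algebraMap F K).injective h1

end Cfsg.Agent.H575.Hall

private theorem dce_472cc6c06238 : _root_.True := by
  try have : _root_.True := by simp only [_root_.Cfsg.Agent.H575.Hall.mat.eq_1]
  exact _root_.True.intro
end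

-- part: H165/RV/Step
section
set_option linter.all false
open scoped Cfsg.Agent.FastGrp

/-!
# TEAM RV: pronormality of Hall subgroups, elementary steps (helper165)

`Pr H g` : `H` and `g H g⁻¹` are conjugate in the subgroup they generate.

* `Pr.trans` : `x ∈ ⟨H, H^g⟩` and `Pr H (x⁻¹ g)` imply `Pr H g`;
* `exists_of_quot` : from `Pr` modulo a normal subgroup;
* `Pr.of_inter` : the Schur-Zassenhaus step.
-/

set_option autoImplicit false

namespace Cfsg.Agent.H165.RV

open Subgroup Cfsg Cfsg.Agent.H988.CPi Cfsg.Agent.H571.DExt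
open scoped Pointwise

universe u

variable {G : Type u} [Group G]

/-- `H` and `g H g⁻¹` are conjugate in the subgroup they generate. -/
def Pr (H : Subgroup G) (g : G) : Prop :=
  ∃ x ∈ H ⊔ MulAut.conj g • H, MulAut.conj g • H = MulAut.conj x • H

theorem cj_eq (g : G) (H : Subgroup G) : H.map (MulAut.conj g).toMonoidHom = MulAut.conj g • H := by
  ext x
  simp [Subgroup.mem_map, Subgroup.mem_smul_pointwise_iff_exists]

theorem isPronormal_iff {H : Subgroup G} : IsPronormal H ↔ ∀ g, Pr H g := by
  unfold IsPronormal Pr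
  constructor
  · intro h g
    obtain ⟨x, hx, he⟩ := h g
    refine ⟨x, ?_, ?_⟩
    · rw [← cj_eq]; exact hx
    · rw [← cj_eq, ← cj_eq]; exact he
  · intro h g
    obtain ⟨x, hx, he⟩ := h g
    refine ⟨x, ?_, ?_⟩
    · rw [cj_eq]; exact hx
    · rw [cj_eq, cj_eq]; exact he

theorem Pr.of_eq {H : Subgroup G} {g : G} (h : MulAut.conj g • H = H) : Pr H g :=
  ⟨1, one_mem _, by rw [h]; simp⟩

theorem Pr.of_mem {H : Subgroup G} {g : G} (h : g ∈ H ⊔ MulAut.conj g • H) : Pr H g := ⟨g, h, rfl⟩

theorem smul_mul (a b : G) (H : Subgroup G) : MulAut.conj (a * b) • H = MulAut.conj a • MulAut.conj b • H := by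
  rw [map_mul, mul_smul]

theorem smul_sup' (a : G) (H K : Subgroup G) : MulAut.conj a • (H ⊔ K) = MulAut.conj a • H ⊔ MulAut.conj a • K :=
  Subgroup.smul_sup _ _ _

theorem smul_eq_of_mem {H : Subgroup G} {h : G} (hh : h ∈ H) : MulAut.conj h • H = H :=
  Subgroup.conj_smul_eq_self_of_mem hh

theorem smul_normal (A : Subgroup G) [A.Normal] (g : G) : MulAut.conj g • A = A :=
  Subgroup.Normal.conj_smul_eq_self g A

theorem smul_inf' (a : G) (H K : Subgroup G) : MulAut.conj a • (H ⊓ K) = MulAut.conj a • H ⊓ MulAut.conj a • K :=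
  Subgroup.smul_inf _ _ _

theorem conj_inv_smul_smul (a : G) (H : Subgroup G) : MulAut.conj a⁻¹ • MulAut.conj a • H = H := by
  rw [← smul_mul, inv_mul_cancel]; simp

theorem conj_smul_inv_smul (a : G) (H : Subgroup G) : MulAut.conj a • MulAut.conj a⁻¹ • H = H := by
  rw [← smul_mul, mul_inv_cancel]; simp

/-- **The composition step.** -/
theorem Pr.trans {H : Subgroup G} {g x : G} (hx : x ∈ H ⊔ MulAut.conj g • H) (h : Pr H (x⁻¹ * g)) : Pr H g := by
  obtain ⟨z, hz, he⟩ := h
  have h1 : H ⊔ MulAut.conj (x⁻¹ * g) • H ≤ H ⊔ MulAut.conj g • H := by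
    refine sup_le le_sup_left ?_
    rw [smul_mul]
    have h2 : MulAut.conj x⁻¹ • MulAut.conj g • H ≤ MulAut.conj x⁻¹ • (H ⊔ MulAut.conj g • H) :=
      pointwise_smul_le_pointwise_smul_iff.mpr le_sup_right
    rwa [smul_eq_of_mem (inv_mem hx)] at h2
  refine ⟨x * z, mul_mem hx (h1 hz), ?_⟩
  rw [smul_mul, ← he, ← smul_mul]
  congr 2
  group

/-- right multiplication by an element of `H` -/
theorem Pr.mul_right {H : Subgroup G} {g h : G} (hh : h ∈ H) (hg : Pr H g) : Pr H (g * h) := by
  have h1 : MulAut.conj (g * h) • H = MulAut.conj g • H := by rw [smul_mul, smul_eq_of_mem hh]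
  obtain ⟨x, hx, he⟩ := hg
  exact ⟨x, by rw [h1]; exact hx, by rw [h1]; exact he⟩

/-- images -/
theorem map_smul' {G' : Type*} [Group G'] (f : G →* G') (a : G) (H : Subgroup G) :
    (MulAut.conj a • H).map f = MulAut.conj (f a) • H.map f := by
  rw [← cj_eq, ← cj_eq, Subgroup.map_map, Subgroup.map_map]
  congr 1
  ext x
  simp

/-- `Pr` passes from a subgroup to the group. -/
theorem Pr.of_subgroup {M : Subgroup G} {H : Subgroup M} {g : M} (h : Pr H g) :
    Pr (H.map M.subtype) (g : G) := by
  obtain ⟨x, hx, he⟩ := h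
  refine ⟨x, ?_, ?_⟩
  · have h1 : M.subtype x ∈ (H ⊔ MulAut.conj g • H).map M.subtype := ⟨x, hx, rfl⟩
    rw [Subgroup.map_sup, map_smul'] at h1
    exact h1
  · have h1 := congrArg (Subgroup.map M.subtype) he
    rw [map_smul', map_smul'] at h1
    exact h1

theorem Pr.of_subgroupOf {M H : Subgroup G} (hH : H ≤ M) {g : M} (h : Pr (H.subgroupOf M) g) : Pr H (g : G) := by
  have h1 := h.of_subgroup
  rwa [subgroupOf_map_subtype, inf_of_le_left hH] at h1

/-- **The quotient step.** -/
theorem exists_of_quot (A : Subgroup G) [A.Normal] {H : Subgroup G} {g : G}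
    (h : Pr (H.map (QuotientGroup.mk' A)) (QuotientGroup.mk' A g)) :
    ∃ x ∈ H ⊔ MulAut.conj g • H, MulAut.conj (x⁻¹ * g) • H ⊔ A = H ⊔ A := by
  obtain ⟨x', hx', he⟩ := h
  rw [← map_smul', ← Subgroup.map_sup] at hx'
  obtain ⟨x, hx, rfl⟩ := hx'
  refine ⟨x, hx, ?_⟩
  rw [← map_smul', ← map_smul'] at he
  have h1 : MulAut.conj g • H ⊔ A = MulAut.conj x • H ⊔ A := by
    have := congrArg (Subgroup.comap (QuotientGroup.mk' A)) he
    rwa [comap_map_eq, comap_map_eq, QuotientGroup.ker_mk'] at this
  have h2 := congrArg (fun K => MulAut.conj x⁻¹ • K) h1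
  simp only [smul_sup', smul_normal] at h2
  rw [conj_inv_smul_smul, ← smul_mul] at h2
  exact h2

theorem le_normalizer_inf (H A : Subgroup G) [A.Normal] : H ≤ normalizer ((H ⊓ A : Subgroup G) : Set G) := by
  intro h hh
  rw [mem_normalizer_iff]
  intro n
  constructor
  · rintro ⟨h1, h2⟩
    exact ⟨H.mul_mem (H.mul_mem hh h1) (H.inv_mem hh), (inferInstance : A.Normal).conj_mem _ h2 _⟩
  · rintro ⟨h1, h2⟩
    have h3 := H.mul_mem (H.mul_mem (H.inv_mem hh) h1) hh
    have h4 := (inferInstance : A.Normal).conj_mem _ h2 h⁻¹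
    refine ⟨?_, ?_⟩
    · simpa [mul_assoc] using h3
    · simpa [mul_assoc] using h4

variable [Finite G] {π : Set ℕ}

omit [Finite G] in
theorem card_smul (g : G) (H : Subgroup G) : Nat.card (MulAut.conj g • H : Subgroup G) = Nat.card H :=
  Cfsg.Agent.Solvable.SZ.card_conj_smul _ _

theorem relIndex_eq_of_card {H K J : Subgroup G} (hH : H ≤ J) (hK : K ≤ J) (h : Nat.card K = Nat.card H) :
    K.relIndex J = H.relIndex J := by
  have h1 := (H.subgroupOf J).card_mul_index
  have h2 := (K.subgroupOf J).card_mul_index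
  have c1 : Nat.card (H.subgroupOf J) = Nat.card H := by
    rw [← card_map_of_injective J.subtype_injective, subgroupOf_map_subtype, inf_of_le_left hH]
  have c2 : Nat.card (K.subgroupOf J) = Nat.card K := by
    rw [← card_map_of_injective J.subtype_injective, subgroupOf_map_subtype, inf_of_le_left hK]
  rw [c1] at h1
  rw [c2, h, ← h1] at h2
  exact Nat.eq_of_mul_eq_mul_left Nat.card_pos h2

/-- **The Schur-Zassenhaus step.** -/
theorem Pr.of_inter_eq (A : Subgroup G) [A.Normal] {H : Subgroup G} {y : G} (hπ : PiN π (Nat.card H))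
    (hA : PiN' π (H.relIndex A)) (hy : MulAut.conj y • H ⊔ A = H ⊔ A) (hR : MulAut.conj y • (H ⊓ A) = H ⊓ A) :
    Pr H y := by
  set J := H ⊔ MulAut.conj y • H with hJ
  have hHJ : H ≤ J := le_sup_left
  have hyJ : MulAut.conj y • H ≤ J := le_sup_right
  have hJA : J ≤ H ⊔ A := sup_le le_sup_left (by rw [← hy]; exact le_sup_left)
  -- `R = H ⊓ A` is normal in `J`
  have hRy : MulAut.conj y • H ⊓ A = H ⊓ A := by
    have h1 := hR
    rw [smul_inf', smul_normal A] at h1
    exact h1
  have hRJ : H ⊓ A ≤ J := inf_le_left.trans hHJ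
  have hNR : J ≤ normalizer ((H ⊓ A : Subgroup G) : Set G) := by
    refine sup_le (le_normalizer_inf H A) ?_
    have := le_normalizer_inf (MulAut.conj y • H) A
    rwa [hRy] at this
  have n1 : ((H ⊓ A).subgroupOf J).Normal := (normal_subgroupOf_iff_le_normalizer hRJ).mpr hNR
  have n2 : (A.subgroupOf J).Normal := inferInstance
  have hAHA : PiN π (A.relIndex (H ⊔ A)) := by
    rw [relIndex_sup_right]
    exact hπ.of_dvd (relIndex_dvd_card A H)
  have hC : IsCPiGroup π J := by
    refine cpi_of_chain ((H ⊓ A).subgroupOf J) (A.subgroupOf J) ?_ ?_ ?_ ?_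
    · intro x hx; exact hx.2
    · rw [← card_map_of_injective J.subtype_injective, subgroupOf_map_subtype, inf_of_le_left hRJ]
      exact hπ.of_dvd (card_dvd_of_le inf_le_left)
    · refine PiN'.of_dvd hA ?_
      have e1 : A.subgroupOf J = (A ⊓ J).subgroupOf J := by
        ext x; simp [mem_subgroupOf]
      rw [e1, relIndex_subgroupOf inf_le_right, ← inf_relIndex_right H A,
        ← relIndex_mul_relIndex (H ⊓ A) (A ⊓ J) A (le_inf inf_le_right hRJ) inf_le_left]
      exact dvd_mul_right _ _
    · refine PiN.of_dvd hAHA ?_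
      show A.relIndex J ∣ _
      rw [← relIndex_sup_right, ← relIndex_mul_relIndex A (J ⊔ A) (H ⊔ A) le_sup_right (sup_le hJA le_sup_right)]
      exact dvd_mul_right _ _
  have hrel : PiN' π (H.relIndex J) := by
    refine PiN'.of_dvd hA ?_
    rw [← relIndex_sup' H A, ← relIndex_mul_relIndex H J (H ⊔ A) hHJ hJA]
    exact dvd_mul_right _ _
  have hrel' : PiN' π ((MulAut.conj y • H).relIndex J) := by
    rw [relIndex_eq_of_card hHJ hyJ (card_smul y H)]
    exact hrel
  obtain ⟨x, hx, he⟩ := conj_of_cpi hC hHJ hyJ hπ hrel (by rw [card_smul]; exact hπ) hrel'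
  exact ⟨x, hx, he.symm⟩

/-- **The general extension step.** -/
theorem Pr.of_inter (A : Subgroup G) [A.Normal] {H : Subgroup G} {y : G} (hπ : PiN π (Nat.card H))
    (hA : PiN' π (H.relIndex A)) (hy : MulAut.conj y • H ⊔ A = H ⊔ A) (hR : Pr (H ⊓ A) y) : Pr H y := by
  obtain ⟨z, hz, he⟩ := hR
  have hle : H ⊓ A ⊔ MulAut.conj y • (H ⊓ A) ≤ H ⊔ MulAut.conj y • H := by
    refine sup_le (inf_le_left.trans le_sup_left) ?_
    rw [smul_inf']
    exact inf_le_left.trans le_sup_right
  have hzA : z ∈ A := by
    have : H ⊓ A ⊔ MulAut.conj y • (H ⊓ A) ≤ A := by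
      refine sup_le inf_le_right ?_
      rw [smul_inf', smul_normal A]
      exact inf_le_right
    exact this hz
  refine Pr.trans (hle hz) (Pr.of_inter_eq A hπ hA ?_ ?_)
  · rw [smul_mul]
    have h1 : MulAut.conj z⁻¹ • (MulAut.conj y • H ⊔ A) = MulAut.conj z⁻¹ • (H ⊔ A) := by rw [hy]
    rw [smul_sup', smul_normal A, smul_eq_of_mem (H := H ⊔ A) (inv_mem (mem_sup_right hzA))] at h1
    exact h1
  · rw [smul_mul, he, conj_inv_smul_smul]

end Cfsg.Agent.H165.RV
end
end
end
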